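import Cfsg.Agent.GLn.RegSmall

/-! Generation of `SL_3` by two conjugate regular unipotent elements. -/

open Matrix Finset

namespace Cfsg.Agent.GLn

variable {F : Type*} [Field F] [Fintype F]

theorem exists_pow_ne_one_of_not_dvd {k : ℕ} (h : ¬ Fintype.card F - 1 ∣ k) :
    ∃ c : F, c ≠ 0 ∧ c ^ k ≠ 1 := by
  rw [← FiniteField.forall_pow_eq_one_iff] at h
  push Not at h
  obtain ⟨c, hc⟩ := h
  exact ⟨c, c.ne_zero, fun e => hc (Units.ext (by simpa using e))⟩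

theorem eq_top_of_cubes (h4 : Fintype.card F ≠ 4) {A : AddSubgroup F}
    (hA : ∀ t x, x ∈ A → t ^ 3 * x ∈ A) {c : F} (hc : c ∈ A) (hc0 : c ≠ 0) : A = ⊤ := by
  let R : Subring F :=
    { carrier := {r | ∀ x ∈ A, r * x ∈ A}
      mul_mem' := fun {a b} ha hb x hx => by rw [mul_assoc]; exact ha _ (hb x hx)
      one_mem' := fun x hx => by rwa [one_mul]
      add_mem' := fun {a b} ha hb x hx => by rw [add_mul]; exact A.add_mem (ha x hx) (hb x hx)
      zero_mem' := fun x _ => by rw [zero_mul]; exact A.zero_mem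
      neg_mem' := fun {a} ha x hx => by rw [neg_mul]; exact A.neg_mem (ha x hx) }
  have hR : ∀ t, t ^ 3 ∈ R := fun t x hx => hA t x hx
  suffices h : ∀ a, a ∈ R from eq_top_iff.mpr fun y _ => by
    simpa [hc0] using h (y / c) c hc
  have h1 : ∀ x : F, 3 * (x ^ 2 + x) ∈ R := fun x => by
    convert R.sub_mem (R.sub_mem (hR (x + 1)) (hR x)) R.one_mem using 1; ring
  intro a
  by_cases h3 : (3 : F) = 0
  · have : CharP F 3 := (CharP.charP_iff_prime_eq_zero Nat.prime_three).mpr (by exact_mod_cast h3)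
    have : Fact (Nat.Prime 3) := ⟨Nat.prime_three⟩
    obtain ⟨t, rfl⟩ := (Finite.injective_iff_surjective.mp (frobenius F 3).injective) a
    exact hR t
  by_cases h2 : (2 : F) = 0
  swap
  · convert R.sub_mem (h1 (a / 6)) (h1 (-(a / 6))) using 1
    have : (6 : F) ≠ 0 := by
      rw [show (6 : F) = 2 * 3 by norm_num]; exact mul_ne_zero h2 h3
    field_simp; ring
  have h5 : ∀ x : F, x ^ 2 + x ∈ R := fun x => by
    convert h1 x using 1; linear_combination (-(x ^ 2 + x)) * h2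
  by_cases h6 : Fintype.card F - 1 ∣ 3
  · have h7 : Fintype.card F - 1 ∣ 1 := by
      have := Fintype.one_lt_card (α := F)
      rcases (Nat.dvd_prime Nat.prime_three).mp h6 with h | h
      · rw [h]
      · omega
    by_cases ha : a = 0
    · rw [ha]; exact R.zero_mem
    · have := congrArg Units.val
        ((FiniteField.forall_pow_eq_one_iff F 1).mpr h7 (Units.mk0 a ha))
      rw [show a = 1 by simpa using this]; exact R.one_mem
  obtain ⟨t, ht0, ht⟩ := exists_pow_ne_one_of_not_dvd h6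
  have h8 : t ^ 3 - (t ^ 3) ^ 2 ≠ 0 := by
    rw [sq, ← mul_one_sub]; exact mul_ne_zero (pow_ne_zero _ ht0) (sub_ne_zero.mpr ht.symm)
  have h9 : (t ^ 3 - (t ^ 3) ^ 2) * a ∈ R := by
    convert R.sub_mem (h5 (t ^ 3 * a)) (R.mul_mem (R.pow_mem (hR t) 2) (h5 a)) using 1; ring
  have := R.mul_mem (R.pow_mem (R.sub_mem (hR t) (R.pow_mem (hR t) 2)) (Fintype.card F - 2)) h9
  rwa [← mul_assoc, ← pow_succ, show Fintype.card F - 2 + 1 = Fintype.card F - 1 by
    have := Fintype.one_lt_card (α := F); omega, FiniteField.pow_card_sub_one_eq_one _ h8,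
    one_mul] at this

theorem exists_generator (F : Type*) [Field F] [Finite F] :
    ∃ ω : F, ω ≠ 0 ∧ ∀ t : F, t ≠ 0 → ∃ k : ℕ, t = ω ^ k := by
  obtain ⟨ω, hω⟩ := IsCyclic.exists_monoid_generator (α := Fˣ)
  refine ⟨ω, ω.ne_zero, fun t ht => ?_⟩
  obtain ⟨k, hk⟩ := hω (Units.mk0 t ht)
  exact ⟨k, by simpa using (congrArg Units.val hk).symm⟩

omit [Fintype F] in
theorem pow_mul_mem {A : AddSubgroup F} {π : F} (hA : ∀ x ∈ A, π * x ∈ A) (k : ℕ) :
    ∀ x ∈ A, π ^ k * x ∈ A := by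
  induction k with
  | zero => simp
  | succ k ih => intro x hx; rw [pow_succ', mul_assoc]; exact hA _ (ih x hx)

omit [Fintype F] in
theorem addGen_of_generator {ω : F} (hω : ∀ t : F, t ≠ 0 → ∃ k : ℕ, t = ω ^ k) : AddGen ω := by
  intro A hA c hc hc0
  refine eq_top_iff.mpr fun y _ => ?_
  by_cases hy : y = 0
  · rw [hy]; exact A.zero_mem
  obtain ⟨k, hk⟩ := hω (y / c) (div_ne_zero hy hc0)
  simpa [← hk, hc0] using pow_mul_mem hA k c hc

theorem addGen_cube (h4 : Fintype.card F ≠ 4) {ω : F} (hω : ∀ t : F, t ≠ 0 → ∃ k : ℕ, t = ω ^ k) :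
    AddGen (ω ^ 3) := by
  intro A hA c hc hc0
  refine eq_top_of_cubes h4 (fun t x hx => ?_) hc hc0
  by_cases ht : t = 0
  · simp [ht]
  obtain ⟨k, rfl⟩ := hω t ht
  rw [← pow_mul, mul_comm k, pow_mul]
  exact pow_mul_mem hA k x hx

theorem conj_gen_char_two (h2 : (2 : F) = 0) (h4 : Fintype.card F ≠ 4) :
    ∃ g, Subgroup.closure {jord F 3, g * jord F 3 * g⁻¹} = ⊤ := by
  obtain ⟨ω, hω0, hω⟩ := exists_generator F
  have hπ := pow_ne_zero 3 hω0
  have hf0 : stdv F 3 0 ⬝ᵥ ω ^ 3 • stdv F 3 2 = 0 := by simp [stdv_dot_stdv]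
  have hf1 : stdv F 3 1 ⬝ᵥ ω ^ 3 • stdv F 3 2 = 0 := by simp [stdv_dot_stdv]
  obtain ⟨z, hz, hz'⟩ := exists_z (by omega) hf0 hf1
  have hP := cycP_conj (a := -ω ^ 3 • stdv F 3 2) le_rfl hπ (by simp [stdv_dot_stdv])
    (by simp [stdv_dot_stdv]) (by
      simp only [mulVec_smul, jord_mulVec_succ (show 1 + 1 < 3 by omega)]; module) hz'
  obtain ⟨g, hg⟩ : ∃ g, g * jord F 3 * g⁻¹ = jord F 3 * z⁻¹ := by
    refine ⟨⟨ω • cycP ((ω ^ 3)⁻¹ • (stdv F 3 0 - -ω ^ 3 • stdv F 3 2)), ?_⟩, ?_⟩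
    · rw [det_smul, det_cycP]; simp [stdv, hω0]
    · refine mul_inv_eq_iff_eq_mul.mpr (Subtype.ext ?_)
      change ω • _ * _ = _ * ω • _
      rw [smul_mul_assoc, hP, mul_smul_comm]
  refine ⟨g, ?_⟩
  rw [hg]
  have h1 := Subgroup.subset_closure (k := {jord F 3, jord F 3 * z⁻¹}) (Set.mem_insert _ _)
  have h3 := Subgroup.subset_closure (k := {jord F 3, jord F 3 * z⁻¹}) (Set.mem_insert_of_mem _ rfl)
  generalize Subgroup.closure {jord F 3, jord F 3 * z⁻¹} = H at h1 h3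
  have hzH : z ∈ H := by simpa using H.mul_mem (H.inv_mem h3) h1
  have t1 : TIn H (ω ^ 3 • stdv F 3 2) (stdv F 3 1) := ⟨hf1, by
    convert H.mul_mem hzH hzH
    apply Subtype.ext
    rw [Matrix.ext_iff_mulVec]
    intro x
    simp only [sl_mul_mulVec, trv_mulVec, hz, dotProduct_add, dotProduct_smul, stdv_dot_stdv]
    match_scalars
    · ring
    · simp; linear_combination (-ω ^ 3 * (stdv F 3 0 ⬝ᵥ x + stdv F 3 1 ⬝ᵥ x)) * h2
    · simp; linear_combination (-(stdv F 3 1 ⬝ᵥ x)) * h2⟩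
  have t2 : TIn H (stdv F 3 0) (stdv F 3 2) := ⟨by simp [stdv_dot_stdv], by
    convert H.mul_mem h1 h1
    apply Subtype.ext
    have h11 : (1 : F) + 1 = 0 := by rw [← h2]; norm_num
    rw [Matrix.SpecialLinearGroup.coe_mul, trv_coe, jord_coe]
    ext i j
    fin_cases i <;> fin_cases j <;>
      simp [vecMulVec_apply, stdv, shiftN, mul_apply, Fin.sum_univ_three, h11]⟩
  refine eq_top_of_addGen (by omega) h1 (addGen_cube h4 hω) t1 (by simp [stdv_dot_stdv]) hπ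
    (by simpa [stdv_dot_stdv] using t1.comm t2 (by simp [stdv_dot_stdv])) hzH ?_
  simpa [hz, stdv_dot_stdv] using hω0

theorem exists_fst_mem (h2 : (2 : F) ≠ 0) (h3 : Fintype.card F ≠ 3) (h7 : Fintype.card F ≠ 7)
    {B : AddSubgroup (F × F)} (hB : ∀ t : F, t ≠ 0 → ((t ^ 3)⁻¹, t ^ 3) ∈ B) :
    ∃ x : F, x ≠ 0 ∧ (x, 0) ∈ B := by
  have hq := Fintype.one_lt_card (α := F)
  have hc := FiniteField.cast_card_eq_zero F
  by_cases p3 : (3 : F) = 0
  · obtain ⟨t, ht0, ht⟩ := exists_pow_ne_one_of_not_dvd (F := F) (k := 2) fun h => by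
      rcases (Nat.dvd_prime Nat.prime_two).mp h with h | h
      · rw [show Fintype.card F = 2 by omega] at hc; exact h2 (by exact_mod_cast hc)
      · omega
    have ht1 : t + 1 ≠ 0 := fun e => ht (by linear_combination (t - 1) * e)
    refine ⟨((t + 1) ^ 3)⁻¹ - (t ^ 3)⁻¹ - (1 ^ 3)⁻¹, fun e => ht ?_, ?_⟩
    · field_simp at e
      have : (t - 1) ^ 6 = 0 := by
        linear_combination (-1) * e + (-3 * t ^ 5 + 4 * t ^ 4 - 7 * t ^ 3 + 4 * t ^ 2 - 3 * t) * p3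
      rw [sub_eq_zero.mp (pow_eq_zero_iff (by omega) |>.mp this), one_pow]
    · convert B.sub_mem (B.sub_mem (hB _ ht1) (hB _ ht0)) (hB 1 one_ne_zero) using 1
      ext
      · rfl
      · simp only [Prod.snd_sub]; linear_combination (-t ^ 2 - t) * p3
  by_cases p7 : (7 : F) = 0
  · obtain ⟨t, ht0, ht⟩ := exists_pow_ne_one_of_not_dvd (F := F) (k := 6) fun h => by
      have h1 := Nat.le_of_dvd (by omega) h
      have : Fintype.card F = 2 ∨ Fintype.card F = 4 := by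
        interval_cases h5 : Fintype.card F - 1 <;> omega
      rcases this with h | h <;> rw [h] at hc
      · exact h2 (by exact_mod_cast hc)
      · exact h2 (pow_eq_zero_iff two_ne_zero |>.mp (by rw [← hc]; norm_num))
    have hk : ∀ k : F, k ^ 6 = 1 → t + k ≠ 0 := fun k hk e => ht (by
      rw [eq_neg_of_add_eq_zero_left e, ← hk]; ring)
    have a1 := hk 1 (by simp)
    have a2 := hk 2 (by linear_combination 9 * p7)
    have a3 := hk 3 (by linear_combination 104 * p7)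
    have b1 := hk (-1) (by ring)
    have b2 := hk (-2) (by linear_combination 9 * p7)
    have b3 := hk (-3) (by linear_combination 104 * p7)
    refine ⟨(t ^ 3)⁻¹ + ((t + 1) ^ 3)⁻¹ + ((t + 2) ^ 3)⁻¹ + ((t + 3) ^ 3)⁻¹ + ((t + -1) ^ 3)⁻¹ +
      ((t + -2) ^ 3)⁻¹ + ((t + -3) ^ 3)⁻¹, fun e => one_ne_zero (α := F) ?_, ?_⟩
    · field_simp at e
      linear_combination (-1) * e + (-6665 + 27216 * t ^ 2 - 1836 * t ^ 4 - 1419 * t ^ 6 -
        2394 * t ^ 8 + 1383 * t ^ 10 - 616 * t ^ 12 + 147 * t ^ 14 - 18 * t ^ 16 + t ^ 18) * p7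
    · convert B.add_mem (B.add_mem (B.add_mem (B.add_mem (B.add_mem (B.add_mem (hB _ ht0) (hB _ a1))
        (hB _ a2)) (hB _ a3)) (hB _ b1)) (hB _ b2)) (hB _ b3) using 1
      ext
      · rfl
      · simp only [Prod.snd_add]; linear_combination (-t ^ 3 - 12 * t) * p7
  refine ⟨(2 ^ 3)⁻¹ - 8, fun e => ?_, ?_⟩
  · field_simp at e
    exact mul_ne_zero (mul_ne_zero p3 p3) p7 (by linear_combination -e)
  · convert B.sub_mem (hB 2 h2) (B.nsmul_mem (hB 1 one_ne_zero) 8) using 1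
    ext <;> simp <;> norm_num

/-- Upper unitriangular `3 × 3` matrices. -/
def uni3 (x y s : F) : Matrix.SpecialLinearGroup (Fin 3) F :=
  ⟨!![1, x, s; 0, 1, y; 0, 0, 1], by simp [det_fin_three]⟩

omit [Fintype F] in
theorem uni3_mul (x y s x' y' s' : F) :
    uni3 x y s * uni3 x' y' s' = uni3 (x + x') (y + y') (s + s' + x * y') := by
  apply Subtype.ext
  rw [Matrix.SpecialLinearGroup.coe_mul]
  ext i j; fin_cases i <;> fin_cases j <;> simp [uni3] <;> ring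

omit [Fintype F] in
theorem uni3_inv (x y s : F) : (uni3 x y s)⁻¹ = uni3 (-x) (-y) (x * y - s) := by
  refine inv_eq_of_mul_eq_one_right (Subtype.ext ?_)
  rw [uni3_mul]
  ext i j; fin_cases i <;> fin_cases j <;> simp [uni3]

theorem conj_gen_odd (h2 : (2 : F) ≠ 0) (h3 : Fintype.card F ≠ 3) (h7 : Fintype.card F ≠ 7) :
    ∃ (s : F) (g : Matrix.SpecialLinearGroup (Fin 3) F),
      Subgroup.closure {uni3 1 1 s, g * uni3 1 1 s * g⁻¹} = ⊤ := by
  have hq := Fintype.one_lt_card (α := F)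
  have hc := FiniteField.cast_card_eq_zero F
  have h4 : Fintype.card F ≠ 4 := fun h => by
    rw [h] at hc; exact h2 (pow_eq_zero_iff two_ne_zero |>.mp (by rw [← hc]; norm_num))
  obtain ⟨ω, hω0, hω⟩ := exists_generator F
  have hω1 : 1 + ω ≠ 0 := fun e => by
    obtain ⟨t, ht0, ht⟩ := exists_pow_ne_one_of_not_dvd (F := F) (k := 2) fun h => by
      rcases (Nat.dvd_prime Nat.prime_two).mp h with h | h
      · rw [show Fintype.card F = 2 by omega] at hc; exact h2 (by exact_mod_cast hc)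
      · omega
    obtain ⟨k, rfl⟩ := hω t ht0
    exact ht (by rw [← pow_mul, mul_comm, pow_mul, eq_neg_of_add_eq_zero_right e]; simp)
  let z : Matrix.SpecialLinearGroup (Fin 3) F :=
    ⟨!![0, 0, ω / (1 + ω) ^ 3; 0, -ω, 0; (1 + ω) ^ 3 / ω ^ 2, 0, 0], by
      simp [det_fin_three]; field_simp⟩
  obtain ⟨s, hs⟩ : ∃ s, s = (3 + ω) * ω ^ 2 / (1 + ω) ^ 3 := ⟨_, rfl⟩
  obtain ⟨g, hg⟩ : ∃ g, g * uni3 1 1 s * g⁻¹ = z * uni3 1 1 s := by
    refine ⟨⟨(-ω / (1 + ω) ^ 2) • !![1 + 1 / ω, -1 - s * (1 + 1 / ω), 1;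
      -(1 + ω) ^ 3 / ω, s * (1 + ω) ^ 3 / ω, 0;
      (1 + ω) ^ 4 / ω ^ 2, (1 + ω) ^ 3 / ω ^ 2 - s * (1 + ω) ^ 4 / ω ^ 2, 0], ?_⟩, ?_⟩
    · rw [det_smul]; simp [det_fin_three]; field_simp; ring
    · refine mul_inv_eq_iff_eq_mul.mpr (Subtype.ext ?_)
      change _ • _ * (uni3 1 1 s).1 = z.1 * (uni3 1 1 s).1 * _ • _
      rw [smul_mul_assoc, mul_smul_comm]
      congr 1
      ext i j; fin_cases i <;> fin_cases j <;> simp [uni3, z, hs] <;> field_simp <;> ring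
  refine ⟨s, g, ?_⟩
  rw [hg]
  have h1 := Subgroup.subset_closure (k := {uni3 1 1 s, z * uni3 1 1 s}) (Set.mem_insert _ _)
  have h5 := Subgroup.subset_closure (k := {uni3 1 1 s, z * uni3 1 1 s})
    (Set.mem_insert_of_mem _ rfl)
  generalize Subgroup.closure {uni3 1 1 s, z * uni3 1 1 s} = H at h1 h5
  have hz : z ∈ H := by simpa using H.mul_mem h5 (H.inv_mem h1)
  let B : AddSubgroup (F × F) :=
    { carrier := {x | ∃ r, uni3 x.1 x.2 r ∈ H}
      zero_mem' := ⟨0, by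
        convert H.one_mem
        apply Subtype.ext
        ext i j; fin_cases i <;> fin_cases j <;> simp [uni3]⟩
      add_mem' := fun ⟨r, hr⟩ ⟨r', hr'⟩ => by
        have := H.mul_mem hr hr'; rw [uni3_mul] at this; exact ⟨_, this⟩
      neg_mem' := fun ⟨r, hr⟩ => by
        have := H.inv_mem hr; rw [uni3_inv] at this; exact ⟨_, this⟩ }
  have hB : ∀ t : F, t ≠ 0 → ∀ x y, (x, y) ∈ B → ((t ^ 3)⁻¹ * x, t ^ 3 * y) ∈ B := by
    intro t ht
    obtain ⟨k, rfl⟩ := hω t ht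
    induction k with
    | zero => simp
    | succ k ih =>
      intro x y hxy
      obtain ⟨r, hr⟩ := ih (pow_ne_zero _ hω0) x y hxy
      refine ⟨r, ?_⟩
      convert H.mul_mem (H.mul_mem (H.mul_mem hz hz) hr) (H.inv_mem (H.mul_mem hz hz))
      refine eq_mul_inv_iff_mul_eq.mpr (Subtype.ext ?_)
      simp only [Matrix.SpecialLinearGroup.coe_mul]
      ext i j; fin_cases i <;> fin_cases j <;> simp [uni3, z] <;> field_simp <;> ring
  obtain ⟨x, hx0, hx⟩ := exists_fst_mem h2 h3 h7 (B := B) fun t ht => by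
    simpa using hB t ht 1 1 ⟨s, h1⟩
  have h6 := eq_top_of_cubes h4 (A := B.comap (AddMonoidHom.inl F F)) (fun t x hx => by
    by_cases ht : t = 0
    · simp [ht]
    · simpa using hB t⁻¹ (inv_ne_zero ht) x 0 hx) hx hx0
  have h8 : ∀ x : F, ∃ r, uni3 x 0 r ∈ H := fun x =>
    (h6 ▸ AddSubgroup.mem_top x : x ∈ B.comap (AddMonoidHom.inl F F))
  have h9 : ∀ x : F, uni3 0 0 x ∈ H := fun x => by
    obtain ⟨r, hr⟩ := h8 x
    convert H.mul_mem (H.mul_mem hr h1) (H.inv_mem (H.mul_mem h1 hr)) using 1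
    simp only [uni3_mul, uni3_inv]
    congr 1 <;> ring
  have e0 : ![1, 0, 0] ∈ qset H := fun w hw => ⟨hw, by
    obtain ⟨r, hr⟩ := h8 (w 1)
    convert H.mul_mem hr (h9 (w 2 - r)) using 1
    rw [uni3_mul]
    apply Subtype.ext
    have : w 0 = 0 := by simpa [dotProduct, Fin.sum_univ_three] using hw
    rw [trv_coe]
    ext i j; rw [Matrix.add_apply, vecMulVec_apply]
    fin_cases i <;> fin_cases j <;> simp [uni3, this]⟩
  have e2 : ![0, 0, 1] ∈ qset H := by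
    convert (qset H).smul_mem (ω ^ 2 / (1 + ω) ^ 3) (mulVec_mem_qset hz e0) using 1
    ext i; fin_cases i <;> simp [z]
    field_simp
  have e1 : ![0, 1, 0] ∈ qset H := by
    convert (qset H).sub_mem ((qset H).sub_mem (mulVec_mem_qset h1 e2) e2)
      ((qset H).smul_mem s e0) using 1
    ext i; fin_cases i <;> simp [uni3, vecHead, vecTail]
  refine eq_top_of_qset (eq_top_iff.mpr fun x _ => ?_)
  convert (qset H).add_mem ((qset H).add_mem ((qset H).smul_mem (x 0) e0)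
    ((qset H).smul_mem (x 1) e1)) ((qset H).smul_mem (x 2) e2) using 1
  ext i; fin_cases i <;> simp

theorem jord_regular (n : ℕ) (hn : 0 < n) :
    IsNilpotent ((jord F n).1 - 1) ∧ ((jord F n).1 - 1) ^ (n - 1) ≠ 0 :=
  regular_of_conj (P := 1) hn (by simp) (by simp)

theorem exists_conj_gen_three : ∃ u g : Matrix.SpecialLinearGroup (Fin 3) F,
    IsNilpotent (u.1 - 1) ∧ (u.1 - 1) ^ (3 - 1) ≠ 0 ∧ Subgroup.closure {u, g * u * g⁻¹} = ⊤ := by
  have hJ := jord_regular (F := F) 3 (by omega)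
  by_cases h4 : Fintype.card F = 4
  · obtain ⟨g, hg⟩ := conj_gen_3_4 h4; exact ⟨_, g, hJ.1, hJ.2, hg⟩
  by_cases h3 : Fintype.card F = 3
  · obtain ⟨g, hg⟩ := conj_gen_3_3 h3; exact ⟨_, g, hJ.1, hJ.2, hg⟩
  by_cases h7 : Fintype.card F = 7
  · obtain ⟨g, hg⟩ := conj_gen_3_7 h7; exact ⟨_, g, hJ.1, hJ.2, hg⟩
  by_cases h2 : (2 : F) = 0
  · obtain ⟨g, hg⟩ := conj_gen_char_two h2 h4; exact ⟨_, g, hJ.1, hJ.2, hg⟩
  obtain ⟨s, g, hg⟩ := conj_gen_odd h2 h3 h7
  have := regular_of_conj (v := uni3 1 1 s) (P := (uni3 0 (-s) 0).1) (by omega)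
    (by simp) (by
      ext i j; fin_cases i <;> fin_cases j <;>
        simp [uni3, jord_coe, shiftN, mul_apply, Fin.sum_univ_three, add_comm])
  exact ⟨_, g, this.1, this.2, hg⟩

end Cfsg.Agent.GLn
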