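import Cfsg.Agent.GLn.WtDim
import Cfsg.Agent.CharLib.Basic

/-! Unitary representations: basic tools. -/

open Matrix Finset
open scoped ComplexConjugate InnerProductSpace LinearAlgebra.Projectivization

namespace Cfsg.Agent.GLn

theorem exists_unitary_equiv {G : Type*} [Group G] [Finite G] {V : Type*} [AddCommGroup V]
    [Module ℂ V] [FiniteDimensional ℂ V] (ρ : Representation ℂ G V) :
    ∃ (d : ℕ) (e : V ≃ₗ[ℂ] EuclideanSpace ℂ (Fin d)),
      ∀ g x y, ⟪e (ρ g x), e (ρ g y)⟫_ℂ = ⟪e x, e y⟫_ℂ := by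
  have := Fintype.ofFinite G
  let φ : V ≃ₗ[ℂ] EuclideanSpace ℂ (Fin (Module.finrank ℂ V)) :=
    LinearEquiv.ofFinrankEq _ _ (by simp)
  let c : InnerProductSpace.Core ℂ V :=
    { inner := fun x y => ∑ g, ⟪φ (ρ g x), φ (ρ g y)⟫_ℂ
      conj_inner_symm := fun x y => by simp
      re_inner_nonneg := fun x => by
        rw [map_sum]; exact sum_nonneg fun g _ => inner_self_nonneg
      add_left := fun x y z => by simp [inner_add_left, sum_add_distrib]
      smul_left := fun x y r => by simp only [map_smul, inner_smul_left, mul_sum]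
      definite := fun x hx => by
        have h1 := congrArg RCLike.re hx
        rw [map_sum, map_zero, sum_eq_zero_iff_of_nonneg fun g _ => inner_self_nonneg] at h1
        simpa using re_inner_self_nonpos.mp (h1 1 (mem_univ _)).le }
  let : NormedAddCommGroup V := @InnerProductSpace.Core.toNormedAddCommGroup ℂ V _ _ _ c
  let : InnerProductSpace ℂ V := InnerProductSpace.ofCore c.toCore
  refine ⟨_, (stdOrthonormalBasis ℂ V).repr.toLinearEquiv, fun g x y => ?_⟩
  simp only [LinearIsometryEquiv.coe_toLinearEquiv, LinearIsometryEquiv.inner_map_map]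
  change ∑ h, ⟪φ (ρ h (ρ g x)), φ (ρ h (ρ g y))⟫_ℂ = ∑ h, ⟪φ (ρ h x), φ (ρ h y)⟫_ℂ
  rw [← Equiv.sum_comp (Equiv.mulRight g) fun h => ⟪φ (ρ h x), φ (ρ h y)⟫_ℂ]
  simp

theorem exists_char_sum_ne_zero {M : Type*} [CommGroup M] [Fintype M] {V : Type*}
    [AddCommGroup V] [Module ℂ V] (f : M → V) (hf : f 1 ≠ 0) :
    ∃ η : M →* ℂ, ∑ c, η c⁻¹ • f c ≠ 0 := by
  classical
  by_contra! h
  have h1 : ∑ η : AddChar (Additive M) ℂ, ∑ c, η (Additive.ofMul c⁻¹) • f c = 0 :=
    sum_eq_zero fun η _ => h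
      { toFun := fun c => η (Additive.ofMul c)
        map_one' := by simp
        map_mul' := fun a b => by simp [AddChar.map_add_eq_mul] }
  rw [sum_comm, sum_eq_single 1 (fun c _ hc => by
    rw [← sum_smul, AddChar.sum_apply_eq_ite, if_neg (by simpa using hc), zero_smul]) (by simp),
    ← sum_smul, AddChar.sum_apply_eq_ite, if_pos (by simp)] at h1
  exact hf ((smul_eq_zero.mp h1).resolve_left (by simp))

theorem conj_mul_self_char {M : Type*} [Group M] [Finite M] (η : M →* ℂ) (c : M) :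
    conj (η c) * η c = 1 := by
  rw [CharLib.conj_eq_inv_of_mul η.map_one η.map_mul, ← map_mul, inv_mul_cancel, map_one]

variable {V : Type*} [NormedAddCommGroup V] [InnerProductSpace ℂ V]

theorem card_sub_one_le_finrank [FiniteDimensional ℂ V] {J : Type*} [Finite J] (x : J → V)
    {α c : ℂ} (h1 : ∀ i, ⟪x i, x i⟫_ℂ = α) (h2 : ∀ i j, i ≠ j → ⟪x i, x j⟫_ℂ = c) (h : α ≠ c) :
    Nat.card J - 1 ≤ Module.finrank ℂ V := by
  classical
  have := Fintype.ofFinite J
  rcases isEmpty_or_nonempty J with hJ | ⟨⟨i₀⟩⟩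
  · simp
  have hli : LinearIndependent ℂ fun i : {i // i ≠ i₀} => x i.1 - x i₀ := by
    rw [Fintype.linearIndependent_iff]
    intro l hl
    have key : ∀ j, l j + ∑ i, l i = 0 := fun j => by
      have := congrArg (fun z => ⟪x j.1, z⟫_ℂ - ⟪x i₀, z⟫_ℂ) hl
      simp only [inner_sum, inner_smul_right, inner_sub_right, inner_zero_right, sub_zero,
        ← sum_sub_distrib] at this
      apply mul_left_cancel₀ (sub_ne_zero.mpr h)
      rw [mul_zero, ← this, mul_add, mul_sum,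
        ← Fintype.sum_ite_eq j fun i => (α - c) * l i, ← sum_add_distrib]
      refine sum_congr rfl fun i _ => ?_
      rw [h2 _ _ j.2, h2 _ _ i.2.symm, h1]
      by_cases hij : j = i
      · subst hij; rw [h1, if_pos rfl]; ring
      · rw [h2 _ _ fun e => hij (Subtype.ext e), if_neg hij]; ring
    have hs : ∑ i, l i = 0 := by
      have := sum_congr rfl fun j (_ : j ∈ univ) => key j
      rw [sum_add_distrib, sum_const, sum_const_zero, nsmul_eq_mul] at this
      apply mul_left_cancel₀ (a := ((#(univ : Finset {i // i ≠ i₀}) + 1 : ℕ) : ℂ))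
        (Nat.cast_ne_zero.mpr (Nat.succ_ne_zero _))
      push_cast; linear_combination this
    intro j; simpa [hs] using key j
  have := hli.fintype_card_le_finrank
  rwa [Fintype.card_subtype_compl, Fintype.card_subtype_eq, ← Nat.card_eq_fintype_card] at this

/-- Unitary representations. -/
def IsUni {G : Type*} [Group G] (ρ : Representation ℂ G V) : Prop :=
  ∀ g x y, ⟪ρ g x, ρ g y⟫_ℂ = ⟪x, y⟫_ℂ

theorem IsUni.inner_left {G : Type*} [Group G] {ρ : Representation ℂ G V} (hρ : IsUni ρ) (g : G)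
    (x y : V) : ⟪ρ g x, y⟫_ℂ = ⟪x, ρ g⁻¹ y⟫_ℂ := by
  rw [← hρ g x, rep_apply_inv]

theorem IsUni.norm_apply {G : Type*} [Group G] {ρ : Representation ℂ G V} (hρ : IsUni ρ) (g : G)
    (x : V) : ‖ρ g x‖ = ‖x‖ := by
  rw [norm_eq_sqrt_re_inner (𝕜 := ℂ), hρ, ← norm_eq_sqrt_re_inner]

variable {F : Type*} [Field F] {m : ℕ} [Finite F]
  {ρ : Representation ℂ (Matrix.SpecialLinearGroup (Fin (m + 3)) F) V} {ψ : AddChar F ℂ}

local notation "SLm" => Matrix.SpecialLinearGroup (Fin (m + 3)) F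

theorem IsUni.inner_wsum (hρ : IsUni ρ) {v u : Fin (m + 3) → F} {z : V} (hz : z ∈ wt ρ ψ v u)
    (x : V) : ⟪wsum ρ ψ v u x, z⟫_ℂ = Fintype.card (perp v) * ⟪x, z⟫_ℂ := by
  rw [wsum_apply, sum_inner, ← nsmul_eq_mul, ← Finset.card_univ, ← sum_const]
  refine sum_congr rfl fun w _ => ?_
  rw [inner_smul_left, hρ.inner_left, trv_inv, hz, inner_smul_right, ← AddChar.map_neg_eq_conj,
    ← mul_assoc, ← AddChar.map_add_eq_mul]
  simp

theorem IsUni.mem_wt_zero (hρ : IsUni ρ) (hψ : ψ ≠ 1) {x : V}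
    (h : ∀ u : Fin (m + 3) → F, u 0 = 0 → u ≠ 0 → ∀ z ∈ wt ρ ψ (ev F 0) u, ⟪x, z⟫_ℂ = 0) :
    x ∈ wt ρ ψ (ev F 0) 0 := by
  refine mem_wt_zero_of_wsum hψ (card_perp_ne_zero (by simp [Nat.card_pos.ne']) 0) fun u hu hu0 => ?_
  rw [← inner_self_eq_zero (𝕜 := ℂ), hρ.inner_wsum (wsum_mem _ _ _), h u hu hu0 _ (wsum_mem _ _ _),
    mul_zero]

theorem IsUni.inner_eq_zero_of_wt (hρ : IsUni ρ) (hψ : ψ ≠ 1) {a b : Fin (m + 3) → F}
    (h : LinearIndependent F ![a, b]) {x y : V} (hx : x ∈ wt ρ ψ a 0) (hy : y ∈ wt ρ ψ a b) :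
    ⟪x, y⟫_ℂ = 0 := by
  obtain ⟨g, h1, h2⟩ := exists_sl_pair (by omega) h (li_ev_pair (F := F) fin3_zero_ne_one)
  obtain ⟨t, ht⟩ := AddChar.ne_one_iff.mp hψ
  have hw : (Pi.single 1 t : Fin (m + 3) → F) ⬝ᵥ ev F 0 = 0 := by simp
  have := hρ (trv (ev F 0) _ hw) (ρ g x) (ρ g y)
  rw [map_mem_wt hx g h1 (mulVec_zero _), map_mem_wt hy g h1 h2, inner_smul_left,
    inner_smul_right, hρ] at this
  simp only [dotProduct_zero, AddChar.map_zero_eq_one, map_one, one_mul, single_dotProduct,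
    Pi.single_eq_same, mul_one] at this
  by_contra hne
  exact ht (mul_right_cancel₀ hne (this.trans (one_mul _).symm))

omit [Finite F] in
theorem card_proj (n : ℕ) [Finite F] :
    Nat.card (ℙ F (Fin n → F)) = ∑ i ∈ range n, Nat.card F ^ i :=
  Projectivization.card_of_finrank F _ (by simp)

/-- A nonzero vector fixed by the stabilizer of `e₀` forces a large dimension. -/
theorem IsUni.le_finrank_of_fix [FiniteDimensional ℂ V] (hρ : IsUni ρ) {σ : V}
    (hσ : fixSub ρ σ ≠ ⊤) (h : ∀ g : SLm, g.1 *ᵥ ev F 0 = ev F 0 → ρ g σ = σ) :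
    ∑ i ∈ range (m + 3), Nat.card F ^ i - 1 ≤ Module.finrank ℂ V := by
  have key : ∀ g k : SLm, g.1 *ᵥ ev F 0 = k.1 *ᵥ ev F 0 → ρ g σ = ρ k σ := fun g k e =>
    rep_eq_of_inv_mul ρ (h _ (by rw [sl_mul_mulVec, e]; exact sl_inv_mulVec k rfl))
  obtain ⟨s, hs⟩ := exists_sl_single (F := F) (n := m + 3) (by omega) (v := ev F 0) (w := ev F 1)
    (by simp) (by simp)
  have hc : ∀ g k : SLm, LinearIndependent F ![g.1 *ᵥ ev F 0, k.1 *ᵥ ev F 0] →
      ⟪ρ g σ, ρ k σ⟫_ℂ = ⟪σ, ρ s σ⟫_ℂ := fun g k e => by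
    obtain ⟨l, h1, h2⟩ := exists_sl_ev e
    rw [← key l g h1, ← key (l * s) k (by rw [sl_mul_mulVec, hs, h2]), rep_mul_apply, hρ]
  have hex : ∀ p : ℙ F (Fin (m + 3) → F), ∃ g : SLm, g.1 *ᵥ ev F 0 = p.rep := fun p =>
    exists_sl_single (by omega) (by simp) p.rep_nonzero
  choose g hg using hex
  rw [← card_proj]
  refine card_sub_one_le_finrank (fun p => ρ (g p) σ) (fun p => hρ _ _ _) (fun p p' hp =>
    hc _ _ (by rw [hg, hg]; exact Projectivization.linearIndependent_pair_iff_ne.mpr hp))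
    fun e => hσ (eq_top_of_tv_mem fun i j hij a => ?_)
  by_cases hj : j = 0
  swap
  · exact h _ (tv_fix_ev hij hj a)
  by_cases ha : a = 0
  · rw [ha, tv_zero]; exact Subgroup.one_mem _
  subst hj
  have h1 := hc 1 (Matrix.SpecialLinearGroup.transvection hij a) (li_pair_of_coord 0 i (by
    rw [sl_one_mulVec, tv_mulVec]; simp [hij, ha]))
  rw [map_one, Module.End.one_apply, ← e] at h1
  rw [mem_fixSub, ← sub_eq_zero, ← inner_self_eq_zero (𝕜 := ℂ), inner_sub_sub_self, hρ, h1,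
    ← inner_conj_symm (ρ _ σ) σ, h1, inner_conj_symm]
  ring

end Cfsg.Agent.GLn
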