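import Cfsg.Agent.GLn.Transv

/-! Transitivity of `SL_n` on frames; stabilizers are generated by transvections. -/

open Matrix

namespace Cfsg.Agent.GLn

variable {F : Type*} [Field F]

local notation "tv" => Matrix.SpecialLinearGroup.transvection

theorem exists_extend_linearIndependent {n k : ℕ} (v : Fin k → Fin n → F)
    (hv : LinearIndependent F v) {m : ℕ} (hkm : k ≤ m) (hm : m ≤ n) :
    ∃ u : Fin m → Fin n → F, LinearIndependent F u ∧ ∀ i, u (Fin.castLE hkm i) = v i := by
  induction m, hkm using Nat.le_induction with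
  | base => exact ⟨v, hv, fun _ => rfl⟩
  | succ m hkm ih =>
    obtain ⟨u, hu, h⟩ := ih (by omega)
    obtain ⟨x, hx⟩ := exists_linearIndependent_snoc_of_lt_finrank hu (by simp; omega)
    refine ⟨_, hx, fun i => ?_⟩
    rw [show Fin.castLE (hkm.trans m.le_succ) i = (Fin.castLE hkm i).castSucc from rfl,
      Fin.snoc_castSucc, h]

theorem exists_GL_cols {n k : ℕ} (hk : k ≤ n) (v : Fin k → Fin n → F)
    (hv : LinearIndependent F v) :
    ∃ B : GL (Fin n) F, ∀ i, B.val *ᵥ Pi.single (Fin.castLE hk i) 1 = v i := by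
  obtain ⟨u, hu, h⟩ := exists_extend_linearIndependent v hv hk le_rfl
  have : IsUnit (Matrix.of u)ᵀ := linearIndependent_cols_iff_isUnit.mp hu
  refine ⟨this.unit, fun i => ?_⟩
  rw [IsUnit.unit_spec, mulVec_single_one, ← h]
  rfl

theorem gl_inv_mulVec {ι : Type*} [Fintype ι] [DecidableEq ι] (B : GL ι F) {x y : ι → F}
    (h : B.val *ᵥ x = y) : (B⁻¹).val *ᵥ y = x := by
  rw [← h, mulVec_mulVec, Units.inv_mul, one_mulVec]

theorem sl_inv_mulVec {ι : Type*} [Fintype ι] [DecidableEq ι]
    (g : Matrix.SpecialLinearGroup ι F) {x y : ι → F}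
    (h : g.1 *ᵥ x = y) : (g⁻¹).1 *ᵥ y = x := by
  rw [← h, mulVec_mulVec, ← Matrix.SpecialLinearGroup.coe_mul, inv_mul_cancel,
    Matrix.SpecialLinearGroup.coe_one, one_mulVec]

theorem sl_mul_mulVec {ι : Type*} [Fintype ι] [DecidableEq ι]
    (g h : Matrix.SpecialLinearGroup ι F) (x : ι → F) :
    (g * h).1 *ᵥ x = g.1 *ᵥ h.1 *ᵥ x := by
  rw [mulVec_mulVec, Matrix.SpecialLinearGroup.coe_mul]

theorem sl_one_mulVec {ι : Type*} [Fintype ι] [DecidableEq ι] (x : ι → F) :
    (1 : Matrix.SpecialLinearGroup ι F).1 *ᵥ x = x := one_mulVec x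

theorem sl_mulVec_injective {ι : Type*} [Fintype ι] [DecidableEq ι]
    (g : Matrix.SpecialLinearGroup ι F) : Function.Injective (g.1 *ᵥ ·) := fun x y h => by
  rw [← sl_inv_mulVec g (rfl : g.1 *ᵥ x = _), ← sl_inv_mulVec g (rfl : g.1 *ᵥ y = _)]
  exact congrArg _ h

theorem sl_linearIndependent {ι κ : Type*} [Fintype ι] [DecidableEq ι]
    (g : Matrix.SpecialLinearGroup ι F) {v : κ → ι → F} (hv : LinearIndependent F v) :
    LinearIndependent F fun i => g.1 *ᵥ v i :=
  hv.map' (Matrix.mulVecLin g.1) (LinearMap.ker_eq_bot.mpr (sl_mulVec_injective g))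

/-- A matrix mapping a frame to multiples of another one, with controlled determinant. -/
theorem exists_matrix_frame {n k : ℕ} (hk : k ≤ n) (v w : Fin k → Fin n → F)
    (hv : LinearIndependent F v) (hw : LinearIndependent F w) :
    ∃ δ : F, δ ≠ 0 ∧ (v = w → δ = 1) ∧ ∀ d : Fin n → F, ∃ A : Matrix (Fin n) (Fin n) F,
      A.det = δ * ∏ j, d j ∧ ∀ i, A *ᵥ v i = d (Fin.castLE hk i) • w i := by
  classical
  obtain ⟨B, hB⟩ := exists_GL_cols hk v hv
  obtain ⟨C, hC, hBC⟩ : ∃ C : GL (Fin n) F, (∀ i, C.val *ᵥ Pi.single (Fin.castLE hk i) 1 = w i) ∧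
      (v = w → C = B) := by
    by_cases h : v = w
    · exact ⟨B, h ▸ hB, fun _ => rfl⟩
    · obtain ⟨C, hC⟩ := exists_GL_cols hk w hw
      exact ⟨C, hC, fun h' => (h h').elim⟩
  refine ⟨(C * B⁻¹).val.det, GeneralLinearGroup.det_ne_zero _, fun h => by simp [hBC h],
    fun d => ⟨C.val * diagonal d * (B⁻¹).val, ?_, fun i => ?_⟩⟩
  · rw [Units.val_mul, det_mul, det_mul, det_mul, det_diagonal]; ring
  · rw [← mulVec_mulVec, ← mulVec_mulVec, gl_inv_mulVec B (hB i), ← hC, ← mulVec_smul]
    congr 1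
    ext j
    rw [mulVec_diagonal]
    by_cases h : j = Fin.castLE hk i
    · subst h; simp
    · simp [h]

theorem exists_sl_frame {n k : ℕ} (hk : k < n) (v w : Fin k → Fin n → F)
    (hv : LinearIndependent F v) (hw : LinearIndependent F w) :
    ∃ g : Matrix.SpecialLinearGroup (Fin n) F, ∀ i, g.1 *ᵥ v i = w i := by
  obtain ⟨δ, hδ, -, h⟩ := exists_matrix_frame hk.le v w hv hw
  obtain ⟨A, h1, h2⟩ := h (Function.update 1 ⟨k, hk⟩ δ⁻¹)
  refine ⟨⟨A, ?_⟩, fun i => ?_⟩
  · rw [h1, Finset.prod_update_of_mem (Finset.mem_univ _)]; simp [hδ]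
  · rw [h2, Function.update_of_ne (fun e => i.2.ne (congrArg Fin.val e))]; simp

theorem exists_sl_single {n : ℕ} (hn : 2 ≤ n) {v w : Fin n → F} (hv : v ≠ 0) (hw : w ≠ 0) :
    ∃ g : Matrix.SpecialLinearGroup (Fin n) F, g.1 *ᵥ v = w := by
  obtain ⟨g, hg⟩ := exists_sl_frame (k := 1) hn ![v] ![w] (by simpa) (by simpa)
  exact ⟨g, hg 0⟩

theorem exists_sl_pair {n : ℕ} (hn : 3 ≤ n) {a b a' b' : Fin n → F}
    (h : LinearIndependent F ![a, b]) (h' : LinearIndependent F ![a', b']) :
    ∃ g : Matrix.SpecialLinearGroup (Fin n) F, g.1 *ᵥ a = a' ∧ g.1 *ᵥ b = b' := by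
  obtain ⟨g, hg⟩ := exists_sl_frame (k := 2) hn _ _ h h'
  exact ⟨g, hg 0, hg 1⟩

theorem exists_sl_triple {m : ℕ} {a b c a' b' c' : Fin (m + 3) → F}
    (h : LinearIndependent F ![a, b, c]) (h' : LinearIndependent F ![a', b', c']) :
    ∃ (g : Matrix.SpecialLinearGroup (Fin (m + 3)) F) (t : F), t ≠ 0 ∧
      g.1 *ᵥ a = t • a' ∧ g.1 *ᵥ b = b' ∧ g.1 *ᵥ c = c' := by
  obtain ⟨δ, hδ, -, H⟩ := exists_matrix_frame (by omega) _ _ h h'
  obtain ⟨A, h1, h2⟩ := H (Function.update 1 0 δ⁻¹)
  refine ⟨⟨A, ?_⟩, δ⁻¹, inv_ne_zero hδ, h2 0, ?_, ?_⟩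
  · rw [h1, Finset.prod_update_of_mem (Finset.mem_univ _)]; simp [hδ]
  · exact (h2 1).trans (one_smul _ _)
  · exact (h2 2).trans (one_smul _ _)

theorem exists_sl_eigen {m : ℕ} {a b c : Fin (m + 3) → F} (h : LinearIndependent F ![a, b, c])
    {s t u : F} (hstu : s * t * u = 1) :
    ∃ g : Matrix.SpecialLinearGroup (Fin (m + 3)) F,
      g.1 *ᵥ a = s • a ∧ g.1 *ᵥ b = t • b ∧ g.1 *ᵥ c = u • c := by
  obtain ⟨δ, -, hδ, H⟩ := exists_matrix_frame (by omega) _ _ h h
  obtain ⟨A, h1, h2⟩ := H (Fin.cons s (Fin.cons t (Fin.cons u 1)))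
  refine ⟨⟨A, ?_⟩, h2 0, h2 1, h2 2⟩
  rw [h1, hδ rfl]
  simp only [Fin.prod_univ_succ, Fin.cons_zero, Fin.cons_succ, Pi.one_apply, Finset.prod_const_one]
  linear_combination hstu

section Fix
variable {ι : Type*} [Fintype ι] [DecidableEq ι]

theorem tv_mulVec {i j : ι} (h : i ≠ j) (a : F) (x : ι → F) :
    (tv h a : Matrix.SpecialLinearGroup ι F).1 *ᵥ x = x + (a * x j) • Pi.single i 1 := by
  rw [tv_eq_trv, trv_mulVec]; simp

theorem trv_col_mem {H : Subgroup (Matrix.SpecialLinearGroup ι F)} {k : ι} (hH : ∀ i, RootIn H i k)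
    (a : ι → F) (ha : Pi.single k (1 : F) ⬝ᵥ a = 0) : trv a (Pi.single k 1) ha ∈ H := by
  have key : ∀ (s : Finset ι) (hs : k ∉ s) (h),
      trv (∑ i ∈ s, Pi.single i (a i)) (Pi.single k 1) h ∈ H := by
    intro s
    induction s using Finset.induction_on with
    | empty => intro _ h; simp only [Finset.sum_empty, trv_zero_left]; exact H.one_mem
    | insert i s hi ih =>
      intro hs h
      have hik : i ≠ k := by rintro rfl; simp at hs
      have hks : k ∉ s := fun h => hs (Finset.mem_insert_of_mem h)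
      have h2 : Pi.single k (1 : F) ⬝ᵥ ∑ i ∈ s, Pi.single i (a i) = 0 := by
        simp [Finset.sum_apply, Pi.single_apply, hks]
      simp only [Finset.sum_insert hi]
      rw [trv_add_left (by simp [hik.symm]) h2]
      refine H.mul_mem ?_ (ih hks _)
      convert hH i hik (a i) using 1
      rw [tv_eq_trv]
      apply trv_congr
      ext; simp [vecMulVec_apply, Pi.single_apply]
  have e : a = ∑ i ∈ Finset.univ.erase k, Pi.single i (a i) := by
    have ha' : a k = 0 := by simpa using ha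
    ext j
    simp only [Finset.sum_apply, Pi.single_apply, Finset.sum_ite_eq, Finset.mem_erase]
    split_ifs with h
    · rfl
    · rw [show j = k by simpa using h, ha']
  have := key (Finset.univ.erase k) (by simp) (by rw [← e]; exact ha)
  convert this using 2

theorem trv_row_mem {H : Subgroup (Matrix.SpecialLinearGroup ι F)} {k : ι} (w : ι → F)
    (hH : ∀ j, w j ≠ 0 → RootIn H k j)
    (hw : w ⬝ᵥ Pi.single k (1 : F) = 0) : trv (Pi.single k 1) w hw ∈ H := by
  have hk : w k = 0 := by simpa using hw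
  have key : ∀ (s : Finset ι) (h),
      trv (Pi.single k 1) (∑ j ∈ s, Pi.single j (w j)) h ∈ H := by
    intro s
    induction s using Finset.induction_on with
    | empty => intro h; simp only [Finset.sum_empty, trv_zero_right]; exact H.one_mem
    | insert j s hj ih =>
      intro h
      have h2 : (∑ j ∈ s, Pi.single j (w j) : ι → F) ⬝ᵥ Pi.single k (1 : F) = 0 := by
        simp [Finset.sum_apply, Pi.single_apply, hk]
      simp only [Finset.sum_insert hj]
      rw [trv_add_right (by
        by_cases e : k = j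
        · subst e; simp [hk]
        · simp [e]) h2]
      refine H.mul_mem ?_ (ih _)
      by_cases h0 : w j = 0
      · simp only [h0, Pi.single_zero, trv_zero_right]; exact H.one_mem
      · have hkj : k ≠ j := by rintro rfl; exact h0 hk
        rw [← tv_eq_trv hkj]
        exact hH j h0 hkj _
  have := key Finset.univ (by rw [Finset.univ_sum_single]; exact hw)
  simpa only [Finset.univ_sum_single] using this

theorem mem_of_fix {H : Subgroup (Matrix.SpecialLinearGroup ι F)} (S : Finset ι)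
    (hH : ∀ i j, j ∉ S → RootIn H i j) (g : Matrix.SpecialLinearGroup ι F)
    (hg : ∀ j ∈ S, g.1 *ᵥ Pi.single j 1 = Pi.single j 1) : g ∈ H := by
  induction hn : Sᶜ.card generalizing S g with
  | zero =>
    have : g = 1 := Subtype.ext (by
      ext i j
      have hj : j ∈ S := by
        by_contra h
        exact Finset.notMem_empty j (Finset.card_eq_zero.mp hn ▸ Finset.mem_compl.mpr h)
      have := congrFun (hg j hj) i
      simpa [one_apply, Pi.single_apply] using this)
    rw [this]; exact H.one_mem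
  | succ n ih =>
    obtain ⟨k, hk⟩ : Sᶜ.Nonempty := Finset.card_pos.mp (by omega)
    have hkS : k ∉ S := Finset.mem_compl.mp hk
    have step : ∀ g : Matrix.SpecialLinearGroup ι F,
        (∀ j ∈ S, g.1 *ᵥ Pi.single j 1 = Pi.single j 1) → (g.1 *ᵥ Pi.single k 1) k = 1 → g ∈ H := by
      intro g hg h1
      have h2 : Pi.single k (1 : F) ⬝ᵥ (Pi.single k 1 - g.1 *ᵥ Pi.single k 1) = 0 := by
        rw [single_dotProduct, Pi.sub_apply, h1]; simp
      have h3 := trv_col_mem (fun i => hH i k hkS) _ h2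
      refine (H.mul_mem_cancel_left h3).mp (ih (insert k S) (fun i j hj => hH i j fun h =>
        hj (Finset.mem_insert_of_mem h)) _ (fun j hj => ?_) ?_)
      · rw [sl_mul_mulVec, trv_mulVec]
        rcases Finset.mem_insert.mp hj with rfl | hj
        · rw [single_dotProduct, h1]; simp
        · rw [hg j hj, single_dotProduct, Pi.single_eq_of_ne (by rintro rfl; exact hkS hj)]; simp
      · rw [Finset.compl_insert, Finset.card_erase_of_mem hk, hn]; rfl
    have step2 : ∀ g : Matrix.SpecialLinearGroup ι F,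
        (∀ j ∈ S, g.1 *ᵥ Pi.single j 1 = Pi.single j 1) → ∀ l, l ∉ S → l ≠ k →
          (g.1 *ᵥ Pi.single k 1) l ≠ 0 → g ∈ H := by
      intro g hg l hl hlk h0
      have h3 := hH k l hl hlk.symm ((1 - (g.1 *ᵥ Pi.single k 1) k) / (g.1 *ᵥ Pi.single k 1) l)
      refine (H.mul_mem_cancel_left h3).mp (step _ (fun j hj => ?_) ?_)
      · rw [sl_mul_mulVec, tv_mulVec, hg j hj, Pi.single_eq_of_ne (by rintro rfl; exact hl hj)]
        simp
      · rw [sl_mul_mulVec, tv_mulVec, div_mul_cancel₀ _ h0]; simp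
    by_cases h1 : ∃ l, l ∉ S ∧ l ≠ k
    · obtain ⟨l, hl, hlk⟩ := h1
      by_cases h2 : ∃ l, l ∉ S ∧ l ≠ k ∧ (g.1 *ᵥ Pi.single k 1) l ≠ 0
      · obtain ⟨l, h3, h4, h5⟩ := h2
        exact step2 g hg l h3 h4 h5
      · push Not at h2
        have h3 : (g.1 *ᵥ Pi.single k 1) k ≠ 0 := by
          intro h0
          have e : g.1 *ᵥ Pi.single k 1 =
              g.1 *ᵥ ∑ j ∈ S, (g.1 *ᵥ Pi.single k 1) j • Pi.single j 1 := by
            rw [mulVec_sum]
            simp only [mulVec_smul]
            rw [Finset.sum_congr rfl fun j hj => by rw [hg j hj]]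
            ext i
            simp only [Finset.sum_apply, Pi.smul_apply, Pi.single_apply, smul_eq_mul, mul_ite,
              mul_one, mul_zero, Finset.sum_ite_eq]
            split_ifs with hi
            · rfl
            · by_cases hik : i = k
              · rw [hik, h0]
              · exact h2 i hi hik
          have := congrFun (sl_mulVec_injective g e) k
          simp [Finset.sum_apply, Pi.single_apply, hkS] at this
        refine (H.mul_mem_cancel_left (hH l k hkS hlk 1)).mp (step2 _ (fun j hj => ?_) l hl hlk ?_)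
        · rw [sl_mul_mulVec, tv_mulVec, hg j hj, Pi.single_eq_of_ne (by rintro rfl; exact hkS hj)]
          simp
        · rw [sl_mul_mulVec, tv_mulVec, Pi.add_apply, h2 l hl hlk]
          simpa using h3
    · push Not at h1
      refine step g hg ?_
      have e : g.1 = (1 : Matrix ι ι F).updateCol k (g.1 *ᵥ Pi.single k 1) := by
        ext i j
        rw [updateCol_apply]
        split_ifs with h
        · simp [h]
        · have := congrFun (hg j (by by_contra h'; exact h (h1 j h'))) i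
          simpa [one_apply, Pi.single_apply] using this
      have := g.2
      rwa [e, ← cramer_apply, cramer_one, Module.End.one_apply] at this

end Fix

end Cfsg.Agent.GLn
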