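import Cfsg.Agent.GLn.Unitary

/-! Lower bound for the dimension of complex representations of `SL_n(q)`. -/

open Matrix Finset
open scoped ComplexConjugate InnerProductSpace LinearAlgebra.Projectivization

namespace Cfsg.Agent.GLn

variable {V : Type*} [NormedAddCommGroup V] [InnerProductSpace ℂ V]
  {F : Type*} [Field F] {m : ℕ}
  {ρ : Representation ℂ (Matrix.SpecialLinearGroup (Fin (m + 3)) F) V} {ψ : AddChar F ℂ}

local notation "SLm" => Matrix.SpecialLinearGroup (Fin (m + 3)) F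
local notation "Vec" => Fin (m + 3) → F
local notation "tv" => Matrix.SpecialLinearGroup.transvection

variable (ρ) in
/-- Equivariant functions on pairs of vectors. -/
def Eqv (f : Vec → Vec → V) : Prop := ∀ (g : SLm) a b, ρ g (f a b) = f (g.1 *ᵥ a) (g.1 *ᵥ b)

theorem Eqv.eq_zero {f : Vec → Vec → V} (hf : Eqv ρ f) (h : f (ev F 0) (ev F 1) = 0) {a b : Vec}
    (hab : LinearIndependent F ![a, b]) : f a b = 0 := by
  obtain ⟨g, rfl, rfl⟩ := exists_sl_ev hab
  rw [← hf, h, map_zero]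

theorem Eqv.ne_zero {f : Vec → Vec → V} (hf : Eqv ρ f) (h : f (ev F 0) (ev F 1) ≠ 0) {a b : Vec}
    (hab : LinearIndependent F ![a, b]) : f a b ≠ 0 := by
  obtain ⟨g, rfl, rfl⟩ := exists_sl_ev hab
  rw [← hf]; exact rep_ne_zero _ _ h

theorem Eqv.mem_wt {f : Vec → Vec → V} (hf : Eqv ρ f) (hs : ∀ a b (t : F), f a (b + t • a) = f a b)
    (a b : Vec) : f a b ∈ wt ρ ψ a 0 := by
  rw [mem_wt_zero]
  intro w h
  rw [hf, trv_mulVec, trv_mulVec, h, zero_smul, add_zero, hs]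

open Classical in
variable (ρ) in
/-- The equivariant function attached to a vector fixed by the stabilizer of `e₀, e₁`. -/
noncomputable def fr (y : V) (a b : Vec) : V :=
  if h : ∃ g : SLm, g.1 *ᵥ ev F 0 = a ∧ g.1 *ᵥ ev F 1 = b then ρ h.choose y else 0

theorem fr_apply {y : V}
    (hy : ∀ g : SLm, g.1 *ᵥ ev F 0 = ev F 0 → g.1 *ᵥ ev F 1 = ev F 1 → ρ g y = y) (g : SLm)
    {a b : Vec} (ha : g.1 *ᵥ ev F 0 = a) (hb : g.1 *ᵥ ev F 1 = b) : fr ρ y a b = ρ g y := by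
  have h : ∃ g : SLm, g.1 *ᵥ ev F 0 = a ∧ g.1 *ᵥ ev F 1 = b := ⟨g, ha, hb⟩
  rw [fr, dif_pos h]
  exact rep_eq_of_inv_mul ρ (hy _ (by rw [sl_mul_mulVec, h.choose_spec.1, sl_inv_mulVec g ha])
    (by rw [sl_mul_mulVec, h.choose_spec.2, sl_inv_mulVec g hb]))

theorem eqv_fr {y : V}
    (hy : ∀ g : SLm, g.1 *ᵥ ev F 0 = ev F 0 → g.1 *ᵥ ev F 1 = ev F 1 → ρ g y = y) :
    Eqv ρ (fr ρ y) := by
  intro g a b
  by_cases h : ∃ g : SLm, g.1 *ᵥ ev F 0 = a ∧ g.1 *ᵥ ev F 1 = b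
  · obtain ⟨k, h1, h2⟩ := h
    rw [fr_apply hy k h1 h2, fr_apply hy (g * k) (by rw [sl_mul_mulVec, h1])
      (by rw [sl_mul_mulVec, h2]), rep_mul_apply]
  · rw [fr, dif_neg h, fr, dif_neg, map_zero]
    rintro ⟨k, h1, h2⟩
    exact h ⟨g⁻¹ * k, by rw [sl_mul_mulVec, h1, sl_inv_mulVec g rfl],
      by rw [sl_mul_mulVec, h2, sl_inv_mulVec g rfl]⟩

theorem fr_mem_wt {y : V} (hy : y ∈ wt ρ ψ (ev F 0) (ev F 1)) (a b : Vec) :
    fr ρ y a b ∈ wt ρ ψ a b := by
  unfold fr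
  split_ifs with h
  · exact map_mem_wt hy _ h.choose_spec.1 h.choose_spec.2
  · exact zero_mem _

variable [Fintype F]

/-- The Hecke operator. -/
noncomputable def hecke (f : Vec → Vec → V) (a b : Vec) : V := ∑ t : F, f (b + t • a) a

theorem Eqv.hecke {f : Vec → Vec → V} (hf : Eqv ρ f) : Eqv ρ (hecke f) := by
  intro g a b
  simp only [GLn.hecke, map_sum, hf g, mulVec_add, mulVec_smul]

theorem hecke_shift (f : Vec → Vec → V) (a b : Vec) (t : F) :
    hecke f a (b + t • a) = hecke f a b := by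
  unfold hecke
  rw [← Equiv.sum_comp (Equiv.addLeft t) fun s => f (b + s • a) a]
  simp only [Equiv.coe_addLeft, add_smul, add_assoc]

theorem not_cuspidal (hρ : IsUni ρ) (hψ : ψ ≠ 1) (hμ : MuTriv ρ ψ) {x : V}
    (hx : fixSub ρ x ≠ ⊤) :
    ∃ y ∈ wt ρ ψ (ev F 0) (ev F 1), hecke (fr ρ y) (ev F (0 : Fin (m + 3))) (ev F 1) ≠ 0 := by
  by_contra! h
  have hq : (Nat.card F : ℂ) ≠ 0 := by simp
  have h12 := li_ev_pair (F := F) (fin3_one_ne_two (m := m))
  obtain ⟨w, hw, hw0⟩ := exists_mem_wt hψ hq hx h12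
  have h0 : w ∈ wt ρ ψ (ev F 0) 0 := by
    refine hρ.mem_wt_zero hψ fun u hu hu0 z hz => ?_
    have hli := linearIndependent_single_pair hu hu0
    obtain ⟨g, h1, h2⟩ := exists_sl_ev hli
    have hy := map_mem_wt hz g⁻¹ (sl_inv_mulVec g h1) (sl_inv_mulVec g h2)
    have hf := eqv_fr (hμ _ hy)
    have hz' : fr ρ (ρ g⁻¹ z) (ev F 0) u = z := by rw [fr_apply (hμ _ hy) g h1 h2, rep_apply_inv]
    generalize ρ g⁻¹ z = y at hy hf hz'
    have h3 := congrArg (fun v => ⟪w, v⟫_ℂ)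
      (hf.hecke.eq_zero (h _ hy) (LinearIndependent.pair_symm_iff.mp hli))
    simp only [hecke, inner_sum, inner_zero_right] at h3
    rw [sum_congr rfl (g := fun _ => ⟪w, z⟫_ℂ) fun t _ => ?_, sum_const, nsmul_eq_mul] at h3
    · exact (mul_eq_zero.mp h3).resolve_left (by simp)
    have ht : (Pi.single 0 t : Vec) ⬝ᵥ u = 0 := by simp [hu]
    rw [← hρ (trv u _ ht) w z, ← hz', hf, trv_mulVec, trv_mulVec, ht,
      hμ.fix h12 hw (by rw [trv_mulVec]; simp) (by
        rw [trv_mulVec]; simp [fin3_zero_ne_two.symm])]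
    simp
  have h1 : w ∈ wt ρ ψ (ev F 0 + ev F 1) 0 := by
    have := map_mem_wt h0 (tv fin3_zero_ne_one.symm (1 : F)) (v' := ev F 0 + ev F 1)
      (by rw [tv_mulVec]; simp) (mulVec_zero _)
    rwa [hμ.fix h12 hw (tv_fix_ev _ fin3_zero_ne_one _) (tv_fix_ev _ fin3_zero_ne_two _)] at this
  obtain ⟨t, ht⟩ := AddChar.ne_one_iff.mp hψ
  have e0 : (Pi.single 2 t : Vec) ⬝ᵥ ev F 0 = 0 := by simp [fin3_zero_ne_two.symm]
  have e1 : (Pi.single 2 t : Vec) ⬝ᵥ ev F 1 = 0 := by simp [fin3_one_ne_two.symm]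
  have h2 := mem_wt_zero.mp h1 (Pi.single 2 t) (by rw [dotProduct_add, e0, e1, add_zero])
  rw [trv_add_left e0 e1, rep_mul_apply, hw, map_smul, mem_wt_zero.mp h0] at h2
  have : (ψ t - 1) • w = 0 := by simpa [sub_smul, sub_eq_zero] using h2
  exact hw0 ((smul_eq_zero.mp this).resolve_left (sub_ne_zero.mpr ht))

variable (ρ) in
/-- Equivariant functions on flags with a torus weight. -/
structure FlagFn (η₁ η₂ : Fˣ →* ℂ) (f : Vec → Vec → V) : Prop where
  eqv : Eqv ρ f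
  shift : ∀ a b (t : F), f a (b + t • a) = f a b
  smul : ∀ (c d : Fˣ) a b, f ((c : F) • a) ((d : F) • b) = (η₁ c * η₂ d) • f a b

variable {η₁ η₂ : Fˣ →* ℂ} {f : (Fin (m + 3) → F) → (Fin (m + 3) → F) → V}

theorem FlagFn.hecke (hf : FlagFn ρ η₁ η₂ f) : FlagFn ρ η₂ η₁ (hecke f) where
  eqv := hf.eqv.hecke
  shift := hecke_shift f
  smul c d a b := by
    unfold GLn.hecke
    rw [smul_sum, ← Equiv.sum_comp (Equiv.mulRight₀ ((d : F) / c) (by simp))]
    refine sum_congr rfl fun t _ => ?_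
    rw [mul_comm, ← hf.smul, smul_add, smul_smul, smul_smul]
    congr 3
    simp only [Equiv.mulRight₀_apply]
    field_simp

theorem FlagFn.hecke_ne_zero (hf : FlagFn ρ η₁ η₂ f) (h : f (ev F 0) (ev F 1) ≠ 0) :
    GLn.hecke f (ev F (0 : Fin (m + 3))) (ev F 1) ≠ 0 := by
  intro h0
  have h1 : ∑ u : F, GLn.hecke f (ev F (1 : Fin (m + 3)) + u • ev F 0) (ev F 0) = 0 :=
    sum_eq_zero fun u _ => hf.eqv.hecke.eq_zero h0 (li_pair_of_coord 1 0 (by simp))
  unfold GLn.hecke at h1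
  rw [sum_comm, sum_eq_single 0 (fun t _ ht => ?_) (by simp)] at h1
  · simp only [zero_smul, add_zero, hf.shift, sum_const, ← Nat.cast_smul_eq_nsmul ℂ] at h1
    exact h ((smul_eq_zero.mp h1).resolve_left (by simp))
  · have : ∀ u : F, f (ev F 0 + t • (ev F 1 + u • ev F 0)) (ev F 1 + u • ev F 0) =
        (η₁ (Units.mk0 t ht) * η₂ (Units.mk0 (-t⁻¹) (by simpa))) •
          f (ev F 1 + (t⁻¹ + u) • ev F 0) (ev F 0) := fun u => by
      rw [← hf.smul, ← hf.shift _ _ (-t⁻¹)]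
      congr 1 <;> simp only [Units.val_mk0] <;> match_scalars <;> field_simp <;> ring
    simp only [this, ← smul_sum]
    exact smul_eq_zero_of_right _ ((Equiv.sum_comp (Equiv.addLeft t⁻¹)
      fun s => f (ev F 1 + s • ev F 0) (ev F 0)).trans h0)

theorem FlagFn.le_finrank [FiniteDimensional ℂ V] (hρ : IsUni ρ) (hf : FlagFn ρ η₁ η₂ f)
    (h : f (ev F 0) (ev F 1) ≠ 0) {d : Fˣ} (hd : η₂ d ≠ 1) :
    ∑ i ∈ range (m + 2), Nat.card F ^ i ≤ Module.finrank ℂ (wt ρ ψ (ev F (0 : Fin (m + 3))) 0) := by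
  let b : ℙ F (Fin (m + 2) → F) → Vec := fun p => Fin.cons 0 p.rep
  have hli : LinearIndependent ℂ fun p : ℙ F (Fin (m + 2) → F) =>
      (⟨f (ev F 0) (b p), hf.eqv.mem_wt hf.shift _ _⟩ : wt ρ ψ (ev F (0 : Fin (m + 3))) 0) := by
    refine linearIndependent_of_ne_zero_of_inner_eq_zero (fun p e => ?_) fun p p' hp => ?_
    · refine hf.eqv.ne_zero h (linearIndependent_single_pair (k := 0) (u := b p) rfl fun e => ?_)
        (congrArg Subtype.val e)
      exact p.rep_nonzero (funext fun i => congrFun e i.succ)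
    · have hli : LinearIndependent F ![ev F 0, b p, b p'] := by
        rw [li_triple_iff]
        intro r s t e
        refine ⟨by simpa [b] using congrFun e 0, LinearIndependent.pair_iff.mp
          (Projectivization.linearIndependent_pair_iff_ne.mpr hp) s t (funext fun i => ?_)⟩
        simpa [b] using congrFun e i.succ
      obtain ⟨g, h1, h2, h3⟩ := exists_sl_eigen hli (s := ((d⁻¹ : Fˣ) : F)) (t := ((1 : Fˣ) : F))
        (u := d) (by simp)
      have := hρ g (f (ev F 0) (b p)) (f (ev F 0) (b p'))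
      rw [hf.eqv, hf.eqv, h1, h2, h3, hf.smul, hf.smul, inner_smul_left, inner_smul_right,
        map_one, mul_one, ← mul_assoc, ← mul_assoc, conj_mul_self_char, one_mul] at this
      by_contra hne
      exact hd (mul_right_cancel₀ hne (this.trans (one_mul _).symm))
  have := Fintype.ofFinite (ℙ F (Fin (m + 2) → F))
  have h2 := hli.fintype_card_le_finrank
  rwa [← Nat.card_eq_fintype_card, card_proj] at h2

section Trivial

theorem FlagFn.smul_one (hf : FlagFn ρ 1 1 f) {c d : F} (hc : c ≠ 0) (hd : d ≠ 0) (a b : Vec) :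
    f (c • a) (d • b) = f a b := by
  simpa using hf.smul (Units.mk0 c hc) (Units.mk0 d hd) a b

theorem FlagFn.add_hecke_symm (hf : FlagFn ρ 1 1 f) (a b : Vec) :
    f a b + GLn.hecke f a b = f b a + GLn.hecke f b a := by
  classical
  unfold GLn.hecke
  rw [← Equiv.sum_comp (Equiv.inv F) fun t => f (a + t • b) b,
    ← add_sum_erase _ _ (mem_univ 0), ← add_sum_erase _ _ (mem_univ (0 : F))]
  simp only [zero_smul, add_zero, Equiv.inv_apply, _root_.inv_zero]
  rw [add_left_comm]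
  congr 2
  refine sum_congr rfl fun t ht => ?_
  have ht := ne_of_mem_erase ht
  rw [← hf.smul_one (inv_ne_zero ht) (neg_ne_zero.mpr ht), ← hf.shift _ _ t]
  congr 1 <;> match_scalars <;> field_simp <;> ring

theorem FlagFn.hecke_eq_neg (hρ : IsUni ρ) (hf : FlagFn ρ 1 1 f)
    (ho : ∀ a b, LinearIndependent F ![a, b] → ∀ x ∈ wt ρ ψ a 0, x ∈ wt ρ ψ b 0 →
      ⟪x, f a b⟫_ℂ = 0) {a b : Vec} (h : LinearIndependent F ![a, b]) :
    GLn.hecke f a b = -f a b := by
  have hm : ∀ a b, f a b + GLn.hecke f a b ∈ wt ρ ψ a 0 := fun a b =>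
    add_mem (hf.eqv.mem_wt hf.shift _ _) (hf.hecke.eqv.mem_wt hf.hecke.shift _ _)
  have key : ∀ a b, LinearIndependent F ![a, b] → ⟪f a b + GLn.hecke f a b, f a b⟫_ℂ = 0 :=
    fun a b h => ho a b h _ (hm a b) (by rw [hf.add_hecke_symm]; exact hm b a)
  rw [eq_neg_iff_add_eq_zero, add_comm, ← inner_self_eq_zero (𝕜 := ℂ), inner_add_right,
    key a b h, zero_add]
  nth_rw 2 [GLn.hecke]
  rw [inner_sum]
  refine sum_eq_zero fun t _ => ?_
  rw [← hf.shift a b t, ← hecke_shift f a b t, hf.add_hecke_symm]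
  refine key _ _ (LinearIndependent.pair_iff.mpr fun r s e => ?_)
  have := LinearIndependent.pair_iff.mp h (r * t + s) r (by rw [← e]; module)
  simpa [this.2] using this.1

theorem FlagFn.inner_eq (hρ : IsUni ρ) (hf : FlagFn ρ 1 1 f) {a b c : Vec}
    (h : LinearIndependent F ![a, b, c]) :
    ⟪f a b, f a c⟫_ℂ = ⟪f (ev F 0) (ev F 1), f (ev F 0) (ev F 2)⟫_ℂ := by
  obtain ⟨g, t, ht, h1, h2, h3⟩ := exists_sl_triple
    (li_ev_triple (F := F) fin3_zero_ne_one fin3_zero_ne_two fin3_one_ne_two) h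
  rw [← hρ g (f (ev F 0) (ev F 1)), hf.eqv, hf.eqv, h1, h2, h3, ← hf.smul_one ht one_ne_zero a b,
    ← hf.smul_one ht one_ne_zero a c, one_smul, one_smul]

theorem FlagFn.inner_neg (hρ : IsUni ρ) (hf : FlagFn ρ 1 1 f) (h : f (ev F 0) (ev F 1) ≠ 0)
    (hA : ∀ σ, (∀ g : SLm, g.1 *ᵥ ev F 0 = ev F 0 → ρ g σ = σ) → σ = 0) :
    (⟪f (ev F 0) (ev F 1), f (ev F 0) (ev F 2)⟫_ℂ).re < 0 := by
  classical
  have h0 : f (ev F 0) 0 = 0 := hA _ fun g hg => by rw [hf.eqv, hg, mulVec_zero]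
  have h1 : ∑ b, f (ev F 0) b = 0 := hA _ fun g hg => by
    simp only [map_sum, hf.eqv g, hg]
    exact Equiv.sum_comp (Equiv.ofBijective _
      (Finite.injective_iff_bijective.mp (sl_mulVec_injective g))) fun b => f (ev F 0) b
  by_contra! hβ
  have h2 := congrArg (fun z => (⟪f (ev F 0) (ev F 1), z⟫_ℂ).re) h1
  simp only [inner_sum, Complex.re_sum, inner_zero_right, Complex.zero_re] at h2
  rw [sum_eq_zero_iff_of_nonneg fun b _ => ?_] at h2
  · exact h ((re_inner_self_nonpos (𝕜 := ℂ)).mp (h2 _ (mem_univ (ev F 1))).le)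
  by_cases hb : LinearIndependent F ![ev F 0, ev F 1, b]
  · rwa [hf.inner_eq hρ hb]
  rw [li_triple_iff] at hb
  push Not at hb
  obtain ⟨r, s, t, e, hne⟩ := hb
  have ht : t ≠ 0 := by
    rintro rfl
    have := LinearIndependent.pair_iff.mp (li_ev_pair (F := F) (fin3_zero_ne_one (m := m))) r s
      (by simpa using e)
    exact hne this.1 this.2 rfl
  have hb : b = (-s / t) • ev F 1 + (-r / t) • ev F 0 := by
    apply smul_right_injective _ ht
    simp only [smul_add, smul_smul, mul_div_cancel₀ _ ht]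
    rw [← sub_eq_zero, ← e]; module
  rw [hb, hf.shift]
  by_cases hs : -s / t = 0
  · rw [hs, zero_smul, h0]; simp
  · rw [← one_smul F (ev F 0), hf.smul_one one_ne_zero hs, one_smul]
    exact inner_self_nonneg (𝕜 := ℂ)

theorem FlagFn.false_of_trivial (hρ : IsUni ρ) (hψ : ψ ≠ 1) (hμ : MuTriv ρ ψ)
    (hf : FlagFn ρ 1 1 f) (h : f (ev F 0) (ev F 1) ≠ 0)
    (ho : ∀ a b, LinearIndependent F ![a, b] → ∀ x ∈ wt ρ ψ a 0, x ∈ wt ρ ψ b 0 →
      ⟪x, f a b⟫_ℂ = 0)
    (hA : ∀ σ, (∀ g : SLm, g.1 *ᵥ ev F 0 = ev F 0 → ρ g σ = σ) → σ = 0) : False := by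
  classical
  have h01 := fin3_zero_ne_one (m := m)
  have h02 := fin3_zero_ne_two (m := m)
  have h12 := fin3_one_ne_two (m := m)
  set r := f (ev F 0) (ev F 1) with hr
  have hnorm : ∀ a b, LinearIndependent F ![a, b] → ‖f a b‖ = ‖r‖ := fun a b hab => by
    obtain ⟨g, rfl, rfl⟩ := exists_sl_ev hab
    rw [← hf.eqv, hρ.norm_apply]
  have h21 := li_ev_pair (F := F) h12.symm
  obtain ⟨u, hu⟩ : ∃ u : V,
      u = ∑ a : F, ∑ c : F, ψ (-a) • f (ev F 2 + c • ev F 0) (ev F 1 + a • ev F 0) := ⟨_, rfl⟩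
  have hum : u ∈ wt ρ ψ (ev F 0) (ev F 1) := by
    intro w hw
    rw [hu, map_sum, smul_sum]
    refine Fintype.sum_equiv (Equiv.addRight (w ⬝ᵥ ev F 1)) _ _ fun a => ?_
    rw [map_sum, smul_sum]
    refine Fintype.sum_equiv (Equiv.addRight (w ⬝ᵥ ev F 2)) _ _ fun c => ?_
    rw [map_smul, hf.eqv, trv_mulVec, trv_mulVec, smul_smul, ← AddChar.map_add_eq_mul]
    simp only [dotProduct_add, dotProduct_smul, hw, smul_zero, add_zero, Equiv.coe_addRight,
      add_smul, add_assoc]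
    congr 2; ring
  have hq : (0 : ℝ) < Fintype.card F := by simp [Fintype.card_pos]
  have N1 : ⟪u, u⟫_ℂ = (Fintype.card F : ℂ) ^ 2 * ⟪f (ev F 2) (ev F 1), u⟫_ℂ := by
    nth_rw 1 [hu]
    rw [sum_inner, sum_congr rfl (g := fun _ => Fintype.card F * ⟪f (ev F 2) (ev F 1), u⟫_ℂ)
      fun a _ => ?_, sum_const, nsmul_eq_mul, card_univ, ← mul_assoc, sq]
    rw [sum_inner, sum_congr rfl (g := fun _ => ⟪f (ev F 2) (ev F 1), u⟫_ℂ)
      fun c _ => ?_, sum_const, nsmul_eq_mul, card_univ]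
    have hw : (Pi.single 1 a + Pi.single 2 c : Vec) ⬝ᵥ ev F 0 = 0 := by simp [h02]
    have := hf.eqv (trv _ _ hw) (ev F 2) (ev F 1)
    rw [trv_mulVec, trv_mulVec] at this
    simp only [add_dotProduct, single_dotProduct, Pi.single_eq_same, Pi.single_eq_of_ne h12,
      Pi.single_eq_of_ne h12.symm, mul_one, mul_zero, zero_add, add_zero] at this
    rw [← this, inner_smul_left, hρ.inner_left, trv_inv, hum, inner_smul_right,
      ← AddChar.map_neg_eq_conj, ← mul_assoc, ← AddChar.map_add_eq_mul]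
    simp [h12]
  have hψ0 : ∑ a : F, ψ (-a) = 0 :=
    (Equiv.sum_comp (Equiv.neg F) ψ).trans (AddChar.sum_eq_zero_of_ne_one hψ)
  have N2 : ⟪f (ev F 2) (ev F 1), u⟫_ℂ = ((‖r‖ ^ 2 : ℝ) : ℂ) - ⟪r, f (ev F 0) (ev F 2)⟫_ℂ := by
    rw [hu, sum_comm, inner_sum, sum_eq_single 0 (fun c _ hc => ?_) (by simp), inner_sum,
      sum_congr rfl (g := fun a => ψ (-a) * ⟪r, f (ev F 0) (ev F 2)⟫_ℂ +
        if a = 0 then ((‖r‖ ^ 2 : ℝ) : ℂ) - ⟪r, f (ev F 0) (ev F 2)⟫_ℂ else 0) fun a _ => ?_,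
      sum_add_distrib, ← sum_mul, hψ0]
    · simp
    · rw [inner_smul_right, zero_smul, add_zero]
      split_ifs with ha
      · rw [ha, zero_smul, add_zero, inner_self_eq_norm_sq_to_K, hnorm _ _ h21]; simp
      · rw [hf.inner_eq hρ, add_zero]
        rw [li_triple_iff]
        intro x y z e
        have e0 : z = 0 := by simpa [ha, h02] using congrFun e 0
        refine ⟨by simpa [h12.symm, h02.symm] using congrFun e 2, ?_, e0⟩
        simpa [e0, h12] using congrFun e 1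
    · rw [inner_sum, sum_congr rfl (g := fun a => ψ (-a) *
        ⟪f (ev F 2) (ev F 1), f (ev F 2 + c • ev F 0) (ev F 1)⟫_ℂ) fun a _ => ?_, ← sum_mul, hψ0,
        zero_mul]
      rw [inner_smul_right, ← hρ (tv h12.symm (-a / c)) _ (f _ (ev F 1)), hf.eqv, hf.eqv,
        mulVec_add, mulVec_smul, tv_fix_ev _ h12, tv_fix_ev _ h01.symm, tv_mulVec,
        hf.shift, ← hf.shift _ (_ + _) (-a / c)]
      congr 3
      simp only [Pi.single_eq_same]
      match_scalars <;> field_simp <;> ring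
  have N3 : (Fintype.card F : ℂ) • u =
      -∑ a : F, ∑ c : F, ψ (-a) • f (ev F 1 + a • ev F 0) (ev F 2 + c • ev F 0) := by
    have h1 : ∀ d : F, ρ (tv h12 d) u = u := fun d =>
      hμ _ hum _ (tv_fix_ev _ h02.symm _) (tv_fix_ev _ h12.symm _)
    rw [Nat.cast_smul_eq_nsmul, ← card_univ, ← sum_const, ← sum_congr rfl fun d _ => h1 d]
    simp only [hu, map_sum, map_smul, hf.eqv (tv h12 _), mulVec_add, mulVec_smul,
      tv_fix_ev _ h02.symm, tv_fix_ev _ h12.symm, ← sum_neg_distrib]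
    rw [sum_comm]
    refine sum_congr rfl fun a _ => ?_
    simp only [← smul_neg, ← smul_sum]
    congr 1
    rw [← sum_congr rfl fun c _ => hf.hecke_eq_neg hρ ho (a := ev F 1 + a • ev F 0)
      (b := ev F 2 + c • ev F 0) (li_pair_of_coord 1 2 (by simp [h12, h12.symm, h02.symm]))]
    unfold GLn.hecke
    conv_rhs => rw [sum_comm]
    refine sum_congr rfl fun d _ => ?_
    refine Fintype.sum_equiv (Equiv.addRight (-(d * a))) _ _ fun c => ?_
    rw [tv_mulVec]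
    congr 1
    simp only [Pi.single_eq_same, Equiv.coe_addRight]
    module
  have N4 : Fintype.card F * ‖u‖ ≤ Fintype.card F * (Fintype.card F * ‖r‖) := by
    have := congrArg norm N3
    rw [norm_smul, norm_neg, Complex.norm_natCast] at this
    rw [this, ← nsmul_eq_mul, ← nsmul_eq_mul]
    refine (norm_sum_le _ _).trans (sum_le_card_nsmul _ _ _ fun a _ => ?_)
    refine (norm_sum_le _ _).trans (sum_le_card_nsmul _ _ _ fun c _ => ?_)
    rw [norm_smul, AddChar.norm_apply, one_mul,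
      hnorm _ _ (li_pair_of_coord 1 2 (by simp [h12, h12.symm, h02.symm]))]
  have N5 := pow_le_pow_left₀ (norm_nonneg _) (le_of_mul_le_mul_left N4 hq) 2
  have N6 := hf.inner_neg hρ h hA
  rw [N2, inner_self_eq_norm_sq_to_K] at N1
  have N7 := congrArg Complex.re N1
  rw [← Complex.ofReal_natCast, ← Complex.ofReal_pow, Complex.re_ofReal_mul, Complex.sub_re,
    Complex.ofReal_re] at N7
  have N8 : ((‖u‖ : ℂ) ^ 2).re = ‖u‖ ^ 2 := by rw [← Complex.ofReal_pow, Complex.ofReal_re]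
  have N9 : ‖u‖ ^ 2 = (Fintype.card F : ℝ) ^ 2 * (‖r‖ ^ 2 - (⟪r, f (ev F 0) (ev F 2)⟫_ℂ).re) :=
    N8.symm.trans N7
  nlinarith [pow_pos hq 2]

end Trivial

theorem geom_split (q n : ℕ) (hq : 1 ≤ q) :
    ∑ i ∈ range (n + 1), q ^ i - 1 = ∑ i ∈ range n, q ^ i + (q ^ n - 1) := by
  have := Nat.one_le_pow n q hq
  rw [sum_range_succ]; omega

theorem IsUni.le_finrank_of_muTriv [FiniteDimensional ℂ V] (hρ : IsUni ρ) (hψ : ψ ≠ 1)
    (hμ : MuTriv ρ ψ) (hG : ∀ x, fixSub ρ x = ⊤ → x = 0) {x : V} (hx : x ≠ 0) :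
    ∑ i ∈ range (m + 3), Nat.card F ^ i - 1 ≤ Module.finrank ℂ V := by
  classical
  by_cases hA : ∃ σ, (∀ g : SLm, g.1 *ᵥ ev F 0 = ev F 0 → ρ g σ = σ) ∧ σ ≠ 0
  · obtain ⟨σ, h1, h2⟩ := hA
    exact hρ.le_finrank_of_fix (fun e => h2 (hG _ e)) h1
  push Not at hA
  obtain ⟨y, hy, hy0⟩ := not_cuspidal hρ hψ hμ fun e => hx (hG _ e)
  have hq : (Nat.card F : ℂ) ≠ 0 := by simp
  have hb : 1 ≤ Module.finrank ℂ (wt ρ ψ (ev F (0 : Fin (m + 3))) (ev F 1)) := by
    obtain ⟨z, hz, hz0⟩ := exists_mem_wt hψ hq (fun e => hx (hG _ e))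
      (li_ev_pair (F := F) (fin3_zero_ne_one (m := m)))
    exact Module.finrank_pos_iff_exists_ne_zero.mpr ⟨⟨z, hz⟩, fun e => hz0 (congrArg Subtype.val e)⟩
  suffices h : ∑ i ∈ range (m + 2), Nat.card F ^ i ≤
      Module.finrank ℂ (wt ρ ψ (ev F (0 : Fin (m + 3))) 0) by
    rw [geom_split _ _ Nat.card_pos]
    exact le_trans (add_le_add h (Nat.le_mul_of_pos_right _ hb)) (finrank_wt_add_le hψ hq)
  have hf0 := eqv_fr (hμ _ hy)
  obtain ⟨η, hη⟩ := exists_char_sum_ne_zero (M := Fˣ × Fˣ)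
    (fun c => hecke (fr ρ y) ((c.1 : F) • ev F (0 : Fin (m + 3))) ((c.2 : F) • ev F 1))
    (by simpa using hy0)
  let f : Vec → Vec → V := fun a b =>
    ∑ c : Fˣ × Fˣ, η c⁻¹ • hecke (fr ρ y) ((c.1 : F) • a) ((c.2 : F) • b)
  have hf : FlagFn ρ (η.comp (MonoidHom.inl _ _)) (η.comp (MonoidHom.inr _ _)) f :=
    { eqv := fun g a b => by simp only [f, map_sum, map_smul, hf0.hecke g, mulVec_smul]
      shift := fun a b t => sum_congr rfl fun c _ => by
        rw [← hecke_shift _ _ ((c.2 : F) • b) (c.2 * t / c.1)]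
        congr 2
        match_scalars <;> field_simp
      smul := fun c d a b => by
        simp only [f, smul_sum]
        refine Fintype.sum_equiv (Equiv.mulRight (c, d)) _ _ fun e => ?_
        simp only [smul_smul, MonoidHom.comp_apply, ← map_mul, Equiv.coe_mulRight, Prod.fst_mul,
          Prod.snd_mul, Units.val_mul]
        congr 2
        ext <;> simp }
  by_cases h2 : ∃ d, (η.comp (MonoidHom.inr _ _)) d ≠ 1
  · obtain ⟨d, hd⟩ := h2
    exact hf.le_finrank hρ hη hd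
  by_cases h1 : ∃ d, (η.comp (MonoidHom.inl _ _)) d ≠ 1
  · obtain ⟨d, hd⟩ := h1
    exact hf.hecke.le_finrank hρ (hf.hecke_ne_zero hη) hd
  push Not at h1 h2
  rw [show η.comp (MonoidHom.inl _ _) = 1 from MonoidHom.ext h1,
    show η.comp (MonoidHom.inr _ _) = 1 from MonoidHom.ext h2] at hf
  refine (hf.false_of_trivial (ψ := ψ) hρ hψ hμ hη (fun a b hab z hza hzb => ?_) hA).elim
  simp only [f, inner_sum, inner_smul_right, hecke]
  refine sum_eq_zero fun c _ => mul_eq_zero_of_right _ (sum_eq_zero fun t _ => ?_)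
  refine hρ.inner_eq_zero_of_wt hψ ?_ ?_ (fr_mem_wt hy _ _)
  · rw [LinearIndependent.pair_iff] at hab ⊢
    intro r s e
    have := hab (r * t * c.1 + s * c.1) (r * c.2) (by rw [← e]; module)
    have hr : r = 0 := by simpa using this.2
    simpa [hr] using this.1
  · obtain ⟨g, h1, h2⟩ := exists_sl_ev hab
    have hw : ((Pi.single 1 (t * c.1 / c.2) : Vec) ᵥ* (g⁻¹).1) ⬝ᵥ a = 0 := by
      rw [← h1, vecMul_inv_dot_mulVec]; simp
    rw [← wt_smul_zero _ c.2.ne_zero] at hzb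
    have := map_mem_wt hzb (trv a _ hw) (v' := (c.2 : F) • b + t • (c.1 : F) • a) (by
      rw [trv_mulVec, dotProduct_smul, ← h2, vecMul_inv_dot_mulVec, smul_smul]
      congr 2
      simp; field_simp) (mulVec_zero _)
    rwa [GLn.mem_wt_zero.mp hza] at this

theorem finrank_wt_le_one [FiniteDimensional ℂ V] (hψ : ψ ≠ 1)
    (h : Module.finrank ℂ V < ∑ i ∈ range (m + 3), Nat.card F ^ i - 1) :
    Module.finrank ℂ (wt ρ ψ (ev F (0 : Fin (m + 3))) (ev F 1)) ≤ 1 := by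
  by_contra! hb
  have h1 := finrank_wt_add_le (ρ := ρ) hψ (by simp)
  have h2 := Nat.mul_le_mul_left (Nat.card F ^ (m + 2) - 1) hb
  have h3 := Nat.geomSum_lt (m := Nat.card F) (n := m + 2) (s := range (m + 2))
    Finite.one_lt_card (by simp)
  rw [geom_split _ _ Nat.card_pos] at h
  omega

end Cfsg.Agent.GLn
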