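import Cfsg.Agent.GLn.PronTwo

/-!
The doubling argument for Sylow 2-subgroups relative to a family of subgroups of `GL`.
-/

set_option autoImplicit false

open Matrix

namespace Cfsg.Agent.GLn

variable {F : Type*} [Field F] {ι κ : Type*} [Fintype ι] [DecidableEq ι] [Fintype κ] [DecidableEq κ]

theorem isPGroup_zpowers_of_pow {G : Type*} [Group G] {p k : ℕ} {x : G} (h : x ^ p ^ k = 1) :
    IsPGroup p (Subgroup.zpowers x) := by
  rintro ⟨_, n, rfl⟩
  refine ⟨k, Subtype.ext ?_⟩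
  change (x ^ n) ^ p ^ k = 1
  rw [← zpow_natCast, ← _root_.zpow_mul, mul_comm, _root_.zpow_mul, zpow_natCast, h,
    _root_.one_zpow]

theorem exists_maximal_pSubgroup {G : Type*} [Group G] {p : ℕ} {Γ W : Subgroup G}
    (hW : IsPGroup p W) (hle : W ≤ Γ) : ∃ P : Subgroup G, IsPGroup p P ∧ W ≤ P ∧ P ≤ Γ ∧
      ∀ Q : Subgroup G, IsPGroup p Q → P ≤ Q → Q ≤ Γ → Q = P := by
  obtain ⟨P, hP⟩ := (hW.comap_of_injective Γ.subtype Γ.subtype_injective).exists_le_sylow
  refine ⟨(P : Subgroup Γ).map Γ.subtype, P.isPGroup'.map _, fun w hw => ⟨⟨w, hle hw⟩, hP hw, rfl⟩,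
    Subgroup.map_subtype_le _, fun Q hQ h1 h2 => ?_⟩
  rw [← P.is_maximal' (hQ.comap_of_injective Γ.subtype Γ.subtype_injective)
    (Subgroup.map_le_iff_le_comap.1 h1)]
  exact (Subgroup.map_comap_eq_self (by rwa [Subgroup.range_subtype])).symm

/-- `W ≤ Γ` is a 2-group whose determinant one part has scalar centraliser, and elements of `Γ` of
odd order normalising a 2-subgroup of `Γ` containing `W` are scalar. -/
structure RigidIn (Γ W : Subgroup (GL ι F)) : Prop where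
  le : W ≤ Γ
  two : IsPGroup 2 W
  cent : ∀ A : Matrix ι ι F, (∀ g ∈ W, (g : Matrix ι ι F).det = 1 → A * g = g * A) →
    ∃ c : F, A = c • 1
  norm : ∀ T : Subgroup (GL ι F), IsPGroup 2 T → W ≤ T → T ≤ Γ → ∀ x ∈ Γ, Odd (orderOf x) →
    x ∈ Subgroup.normalizer (T : Set (GL ι F)) → x ∈ Subgroup.center (GL ι F)

theorem RigidIn.step [Finite F] (h2 : (2 : F) ≠ 0) [Nontrivial ι] (hev : Even (Fintype.card ι))
    {Γ W : Subgroup (GL ι F)} {Γ' : Subgroup (GL (ι ⊕ ι) F)} (hW : RigidIn Γ W) (hneg : -1 ∈ Γ)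
    (hblk : ∀ a b, blkGL (a, b) ∈ Γ' ↔ a ∈ Γ ∧ b ∈ Γ) (hswap : swapGL ∈ Γ') :
    ∃ W' : Subgroup (GL (ι ⊕ ι) F), RigidIn Γ' W' ∧ ∀ g ∈ W', g.1.det = 1 := by
  obtain ⟨P, hPp, hWP, hPΓ, hPmax⟩ := exists_maximal_pSubgroup hW.two hW.le
  have hm : -1 ∈ P := by
    have h1 : IsPGroup 2 (Subgroup.zpowers (-1 : GL ι F)) :=
      isPGroup_zpowers_of_pow (k := 1) (by simp)
    rw [← hPmax _ (h1.to_sup_of_normal_right' hPp (Subgroup.zpowers_le.2 (by
      rw [Subgroup.mem_normalizer_iff]; simp))) le_sup_right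
      (sup_le (Subgroup.zpowers_le.2 hneg) hPΓ)]
    exact Subgroup.mem_sup_left (Subgroup.mem_zpowers _)
  have hP : ∀ A : Matrix ι ι F, (∀ g ∈ P, (g : Matrix ι ι F).det = 1 →
      A * g = g * A) → ∃ c : F, A = c • 1 := fun A hA => hW.cent A fun g hg => hA g (hWP hg)
  set B : Subgroup (GL (ι ⊕ ι) F) := (P.prod P).map blkGL with hB
  have hB2 : IsPGroup 2 B := by
    refine IsPGroup.map ?_ _
    rintro ⟨⟨a, b⟩, ha, hb⟩
    obtain ⟨k, hk⟩ := hPp ⟨a, ha⟩
    obtain ⟨l, hl⟩ := hPp ⟨b, hb⟩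
    have hk' : a ^ 2 ^ k = 1 := congrArg Subtype.val hk
    have hl' : b ^ 2 ^ l = 1 := congrArg Subtype.val hl
    refine ⟨k + l, Subtype.ext (Prod.ext ?_ ?_)⟩
    · change a ^ 2 ^ (k + l) = 1
      rw [pow_add, pow_mul, hk', one_pow]
    · change b ^ 2 ^ (k + l) = 1
      rw [add_comm, pow_add, pow_mul, hl', one_pow]
  have hs2 : IsPGroup 2 (Subgroup.zpowers (swapGL : GL (ι ⊕ ι) F)) := by
    rintro ⟨_, n, rfl⟩
    refine ⟨1, Subtype.ext ?_⟩
    change ((swapGL : GL (ι ⊕ ι) F) ^ n) ^ 2 ^ 1 = 1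
    rw [← zpow_natCast, ← _root_.zpow_mul, mul_comm, _root_.zpow_mul, zpow_natCast, pow_one, sq, swapGL_sq,
      _root_.one_zpow]
  have hsN : Subgroup.zpowers (swapGL : GL (ι ⊕ ι) F) ≤ Subgroup.normalizer (B : Set _) := by
    rw [Subgroup.zpowers_le]
    refine Subgroup.mem_normalizer_fintype ?_
    rintro _ ⟨⟨a, b⟩, ⟨ha, hb⟩, rfl⟩
    exact ⟨(b, a), ⟨hb, ha⟩, by rw [swapGL_blk, mul_inv_cancel_right]⟩
  set W' : Subgroup (GL (ι ⊕ ι) F) := (Subgroup.zpowers swapGL ⊔ B) ⊓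
    (Matrix.GeneralLinearGroup.det (n := ι ⊕ ι) (R := F)).ker with hW'
  have h1 : ∀ a ∈ P, ∀ b ∈ P,
      a.1.det * b.1.det = 1 → blkGL (a, b) ∈ W' := fun a ha b hb hd =>
    ⟨Subgroup.mem_sup_right ⟨(a, b), ⟨ha, hb⟩, rfl⟩, Units.ext (by
      simp [blkGL_val, hd])⟩
  have hs : swapGL ∈ W' := ⟨Subgroup.mem_sup_left (Subgroup.mem_zpowers _),
    Units.ext (det_swapGL hev)⟩
  have hdet : ∀ g ∈ W', g.1.det = 1 := fun g hg => congrArg Units.val hg.2
  have ht : blkGL (1, (-1 : GL ι F)) ∈ W' := h1 1 (one_mem _) (-1) hm (by simp [det_neg, hev.neg_one_pow])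
  have ht' : (blkGL (1, -1) : GL (ι ⊕ ι) F) ∉ Subgroup.center _ := by
    intro h
    have e := (Subgroup.mem_center_iff.1 h swapGL).symm.trans (swapGL_blk 1 (-1 : GL ι F))
    have e' := congrArg Prod.fst (blkGL_injective (mul_right_cancel e))
    obtain ⟨i⟩ : Nonempty ι := inferInstance
    have := congrArg (fun g : GL ι F => g.1 i i) e'
    simp only [Units.val_one, one_apply_eq, Units.val_neg, Matrix.neg_apply] at this
    exact h2 (by linear_combination this)
  have hW'Γ : W' ≤ Γ' := inf_le_left.trans (sup_le (Subgroup.zpowers_le.2 hswap) (by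
    rintro _ ⟨⟨a, b⟩, ⟨ha, hb⟩, rfl⟩
    exact (hblk a b).2 ⟨hPΓ ha, hPΓ hb⟩))
  refine ⟨W', ⟨hW'Γ, (hs2.to_sup_of_normal_right' hB2 hsN).to_inf_left, fun A hA => ?_,
    fun T hT hWT hTΓ x hxΓ hx hxT => ?_⟩, hdet⟩
  · have hA' : ∀ g ∈ W', A * g = g * A := fun g hg => hA g hg (hdet g hg)
    obtain ⟨A1, A2, A3, A4, rfl⟩ : ∃ A1 A2 A3 A4, A = fromBlocks A1 A2 A3 A4 :=
      ⟨_, _, _, _, (fromBlocks_toBlocks A).symm⟩
    have e := hA' _ ht
    rw [blkGL_val] at e
    simp only [Units.val_one, Units.val_neg, fromBlocks_multiply, fromBlocks_inj, mul_one,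
      mul_zero, add_zero, zero_add, mul_neg, neg_mul, one_mul, zero_mul] at e
    have z : ∀ A : Matrix ι ι F, -A = A → A = 0 := fun A hA => by
      have : (2 : F) • A = 0 := by rw [two_smul]; nth_rw 1 [← hA]; simp
      exact (smul_eq_zero.1 this).resolve_left h2
    obtain rfl := z _ e.2.1
    obtain rfl := z _ e.2.2.1.symm
    obtain ⟨a, ha⟩ := hP A1 fun g hg hd => by
      have e := hA' _ (h1 g hg 1 (one_mem _) (by simp [hd]))
      rw [blkGL_val] at e
      simp only [fromBlocks_multiply, fromBlocks_inj, mul_zero, add_zero, zero_mul] at e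
      exact e.1
    have e2 := hA' _ hs
    rw [swapGL_val] at e2
    simp only [fromBlocks_multiply, fromBlocks_inj, mul_zero, add_zero, zero_mul, zero_add,
      mul_one, one_mul] at e2
    refine ⟨a, ?_⟩
    rw [← e2.2.1, ha, ← fromBlocks_one, fromBlocks_smul, smul_zero]
  · have h1' : ∀ a ∈ P, ∀ b ∈ P,
        a.1.det * b.1.det = 1 → blkGL (a, b) ∈ T := fun a ha b hb hd => hWT (h1 a ha b hb hd)
    obtain ⟨z, hzT, hz', hz⟩ := exists_second_center hT (hWT ht) ht'
    obtain ⟨c, hc⟩ := second_center_cases h2 hev hm hP h1' (hWT hs) hz hz'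
    obtain ⟨d, hd⟩ := second_center_cases h2 hev hm hP h1' (hWT hs) (second_center_conj hxT hz)
      (fun h => hz' (by
        have := (inferInstance : (Subgroup.center (GL (ι ⊕ ι) F)).Normal).conj_mem _ h x⁻¹
        convert this using 1
        group))
    set t : GL (ι ⊕ ι) F := blkGL (1, -1) with htdef
    have htt : t * t = 1 := by 
      rw [htdef, ← map_mul, Prod.mk_mul_mk, neg_mul_neg, one_mul]
      exact map_one blkGL
    have hc0 : c ≠ 0 := by
      rintro rfl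
      rw [zero_smul] at hc
      exact z.ne_zero hc
    have e1 : x.1 * t.1 = (c⁻¹ * d) • (t.1 * x.1) := by
      have : x.1 * z.1 = (x * z * x⁻¹).1 * x.1 := by
        rw [← Units.val_mul, ← Units.val_mul, inv_mul_cancel_right]
      rw [hd, hc, mul_smul_comm, smul_mul_assoc] at this
      rw [mul_smul, ← this, smul_smul, inv_mul_cancel₀ hc0, one_smul]
    have htt' : t.1 * t.1 = 1 := by rw [← Units.val_mul, htt]; rfl
    have e2 : (c⁻¹ * d) * (c⁻¹ * d) = 1 := by
      have : x.1 = ((c⁻¹ * d) * (c⁻¹ * d)) • x.1 := by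
        calc x.1 = x.1 * t.1 * t.1 := by rw [mul_assoc, htt', mul_one]
          _ = (c⁻¹ * d) • (t.1 * (x.1 * t.1)) := by
            nth_rw 1 [e1]
            rw [smul_mul_assoc, mul_assoc t.1]
          _ = _ := by rw [e1, mul_smul_comm, smul_smul, ← mul_assoc t.1, htt', one_mul]
      by_contra hne
      have h3 : (1 - (c⁻¹ * d) * (c⁻¹ * d)) • x.1 = 0 := by
        rw [sub_smul, one_smul, ← this, sub_self]
      exact x.ne_zero ((smul_eq_zero.1 h3).resolve_left (sub_ne_zero.2 (Ne.symm hne)))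
    have e3 : Commute x t := by
      refine commute_of_odd_of_sq hx (Units.ext ?_)
      simp only [Units.val_mul]
      rw [mul_assoc, e1, mul_smul_comm, ← mul_assoc x.1, e1, smul_mul_assoc, smul_smul, e2,
        one_smul, mul_assoc]
    obtain ⟨a, b, rfl⟩ := exists_blkGL_of_commute h2 e3
    have hab : (a, b) ^ orderOf (blkGL (a, b)) = 1 :=
      blkGL_injective (by rw [map_pow, pow_orderOf_eq_one, map_one])
    have ha : a ^ orderOf (blkGL (a, b)) = 1 := congrArg Prod.fst hab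
    have hb : b ^ orderOf (blkGL (a, b)) = 1 := congrArg Prod.snd hab
    have hT' := hT.comap_of_injective blkGL blkGL_injective
    have hinv : ∀ g : GL ι F, g.1.det * (g⁻¹).1.det = 1 := fun g => by
      rw [← det_mul, Units.mul_inv, det_one]
    have hP1 : (T.comap blkGL).map (MonoidHom.fst _ _) = P :=
      hPmax _ (hT'.map _) (fun g hg => ⟨(g, g⁻¹), h1' g hg _ (inv_mem hg) (hinv g), rfl⟩) (by
        rintro _ ⟨⟨a, b⟩, h, rfl⟩
        exact ((hblk a b).1 (hTΓ h)).1)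
    have hP2 : (T.comap blkGL).map (MonoidHom.snd _ _) = P :=
      hPmax _ (hT'.map _) (fun g hg => ⟨(g⁻¹, g), h1' _ (inv_mem hg) g hg
        (by rw [mul_comm, hinv]), rfl⟩) (by
        rintro _ ⟨⟨a, b⟩, h, rfl⟩
        exact ((hblk a b).1 (hTΓ h)).2)
    have hac : a ∈ Subgroup.center (GL ι F) := by
      refine hW.norm P hPp hWP hPΓ a ((hblk a b).1 hxΓ).1
        (hx.of_dvd_nat (orderOf_dvd_of_pow_eq_one ha))
        (Subgroup.mem_normalizer_fintype fun g hg => ?_)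
      have := (Subgroup.mem_normalizer_iff.1 hxT _).1 (h1' g hg _ (inv_mem hg) (hinv g))
      rw [← map_mul, ← map_inv, ← map_mul] at this
      change _ ∈ P
      rw [← hP1]
      exact ⟨_, this, rfl⟩
    have hbc : b ∈ Subgroup.center (GL ι F) := by
      refine hW.norm P hPp hWP hPΓ b ((hblk a b).1 hxΓ).2
        (hx.of_dvd_nat (orderOf_dvd_of_pow_eq_one hb))
        (Subgroup.mem_normalizer_fintype fun g hg => ?_)
      have := (Subgroup.mem_normalizer_iff.1 hxT _).1 (h1' _ (inv_mem hg) g hg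
        (by rw [mul_comm, hinv]))
      rw [← map_mul, ← map_inv, ← map_mul] at this
      change _ ∈ P
      rw [← hP2]
      exact ⟨_, this, rfl⟩
    have f1 := mul_mem ((Subgroup.mem_normalizer_iff.1 hxT _).1 (hWT hs)) (inv_mem (hWT hs))
    have f2 : blkGL (a, b) * swapGL * (blkGL (a, b))⁻¹ * swapGL⁻¹ = blkGL (a * b⁻¹, b * a⁻¹) := by
      rw [← map_inv, mul_assoc (blkGL _), Prod.inv_mk, swapGL_blk, ← mul_assoc,
        mul_inv_cancel_right, ← map_mul]
      rfl
    rw [f2] at f1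
    obtain ⟨k, hk⟩ := hT ⟨_, f1⟩
    have f3 : (a * b⁻¹, b * a⁻¹) ^ 2 ^ k = 1 :=
      blkGL_injective (by rw [map_pow, map_one]; exact congrArg Subtype.val hk)
    have f4 : a * b⁻¹ = 1 := by
      refine eq_one_of_odd_of_two hx ?_ (congrArg Prod.fst f3)
      have : Commute a b⁻¹ := (Subgroup.mem_center_iff.1 hac _).symm
      rw [this.mul_pow, ha, inv_pow, hb]; simp
    obtain rfl := mul_inv_eq_one.1 f4
    obtain ⟨e, he⟩ := gl_center_iff.1 hac
    refine gl_center_iff.2 ⟨e, ?_⟩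
    rw [blkGL_val, he, ← fromBlocks_one, fromBlocks_smul, smul_zero]

theorem RigidIn.reindex (e : ι ≃ κ) {Γ W : Subgroup (GL ι F)} {Γ' : Subgroup (GL κ F)}
    (hW : RigidIn Γ W)
    (hΓ : ∀ g, Units.mapEquiv (reindexAlgEquiv F F e).toMulEquiv g ∈ Γ' ↔ g ∈ Γ) :
    ∃ W' : Subgroup (GL κ F), RigidIn Γ' W' ∧
      ((∀ g ∈ W, g.1.det = 1) → ∀ g ∈ W', g.1.det = 1) := by
  let φ : GL ι F ≃* GL κ F := Units.mapEquiv (reindexAlgEquiv F F e).toMulEquiv
  have hφ : ∀ g, (φ g).1 = reindexAlgEquiv F F e g.1 := fun g => rfl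
  refine ⟨W.map φ.toMonoidHom, ⟨?_, hW.two.map _, fun A hA => ?_,
    fun T hT hWT hTΓ x hxΓ hx hxT => ?_⟩, ?_⟩
  · rintro _ ⟨g, hg, rfl⟩
    exact (hΓ g).2 (hW.le hg)
  · obtain ⟨A, rfl⟩ := (reindexAlgEquiv F F e).surjective A
    obtain ⟨c, hc⟩ := hW.cent A fun g hg hd => by
      have := hA _ ⟨g, hg, rfl⟩ (by
        change (φ g).1.det = 1
        rw [hφ, det_reindexAlgEquiv, hd])
      change _ * (φ g).1 = (φ g).1 * _ at this
      rw [hφ, ← map_mul, ← map_mul] at this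
      exact (reindexAlgEquiv F F e).injective this
    exact ⟨c, by rw [hc, map_smul, map_one]⟩
  · obtain ⟨x, rfl⟩ := φ.surjective x
    have := hW.norm (T.comap φ.toMonoidHom) (hT.comap_of_injective _ φ.injective)
      (Subgroup.map_le_iff_le_comap.1 hWT) (fun g hg => (hΓ g).1 (hTΓ hg)) x ((hΓ x).1 hxΓ)
      (by rwa [φ.orderOf_eq] at hx) (by
        rw [Subgroup.mem_normalizer_iff] at hxT ⊢
        intro h
        simpa using hxT (φ h))
    obtain ⟨c, hc⟩ := gl_center_iff.1 this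
    exact gl_center_iff.2 ⟨c, by rw [hφ, hc, map_smul, map_one]⟩
  · rintro h _ ⟨g, hg, rfl⟩
    change (φ g).1.det = 1
    rw [hφ, det_reindexAlgEquiv, h g hg]

theorem pronormal_of_rigidIn {G : Type*} [Group G] [Finite G] [Finite F] {Γ W : Subgroup (GL ι F)}
    (hW : RigidIn Γ W) (φ : G →* GL ι F) (hφ : Function.Injective φ) (h1 : W ≤ φ.range)
    (h2 : φ.range ≤ Γ) (H : Subgroup G) (hZ : Subgroup.center G ≤ H) (hH : Odd H.index) :
    IsPronormal H := by
  obtain ⟨S, hS⟩ := exists_sylow_le_of_odd_index' H hH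
  obtain ⟨S', hS'⟩ := (hW.two.comap_of_injective φ hφ).exists_le_sylow
  obtain ⟨c, hc⟩ := MulAction.exists_smul_eq G S S'
  refine IsPronormal.of_conj c ?_
  have h3 : (S' : Subgroup G) ≤ H.map (MulAut.conj c).toMonoidHom := by
    rw [← hc]
    exact Subgroup.map_mono hS
  have h4 : Subgroup.center G ≤ H.map (MulAut.conj c).toMonoidHom := fun z hz => by
    rw [mem_map_conj, mul_assoc, ← Subgroup.mem_center_iff.1 hz c, inv_mul_cancel_left]
    exact hZ hz
  refine pronormal_of_normalizer_le _ S' h3 fun g hg => Subgroup.le_normalizer ?_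
  obtain ⟨k, m, hm, hkm⟩ := Nat.exists_eq_two_pow_mul_odd (orderOf_pos g).ne'
  have h5 : g ^ m ∈ (S' : Subgroup G) := by
    have hp : IsPGroup 2 (Subgroup.zpowers (g ^ m)) := isPGroup_zpowers_of_pow (k := k) (by
      rw [← pow_mul, mul_comm m, ← hkm, pow_orderOf_eq_one])
    rw [← S'.is_maximal' (hp.to_sup_of_normal_right' S'.isPGroup'
      (Subgroup.zpowers_le.2 (pow_mem hg m))) le_sup_right]
    exact Subgroup.mem_sup_left (Subgroup.mem_zpowers _)
  have h6 : g ^ 2 ^ k ∈ Subgroup.center G := by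
    have : φ (g ^ 2 ^ k) ∈ Subgroup.center (GL ι F) := by
      refine hW.norm ((S' : Subgroup G).map φ) (S'.isPGroup'.map _) (fun w hw => ?_)
        ((Subgroup.map_le_range _ _).trans h2) _ (h2 ⟨_, rfl⟩) ?_ ?_
      · obtain ⟨w', hw'⟩ := h1 hw
        exact ⟨w', hS' (Subgroup.mem_comap.2 (hw' ▸ hw)), hw'⟩
      · refine hm.of_dvd_nat (orderOf_dvd_of_pow_eq_one ?_)
        rw [← map_pow, ← pow_mul, ← hkm, pow_orderOf_eq_one, map_one]
      · refine Subgroup.mem_normalizer_fintype ?_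
        rintro _ ⟨s, hs, rfl⟩
        refine ⟨_, (Subgroup.mem_normalizer_iff.1 (pow_mem hg (2 ^ k)) s).1 hs, ?_⟩
        simp
    refine Subgroup.mem_center_iff.2 fun y => hφ ?_
    rw [map_mul, map_mul, Subgroup.mem_center_iff.1 this]
  obtain ⟨a, b, hab⟩ : ∃ a b : ℤ, a * m + b * (2 ^ k : ℕ) = 1 :=
    Nat.isCoprime_iff_coprime.2 (Nat.Coprime.pow_right k (Nat.coprime_two_right.2 hm))
  have : g = (g ^ m) ^ a * (g ^ 2 ^ k) ^ b := by
    rw [← zpow_natCast, ← zpow_natCast g, ← _root_.zpow_mul, ← _root_.zpow_mul,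
      ← _root_.zpow_add, mul_comm, mul_comm _ b, hab, zpow_one]
  rw [this]
  exact mul_mem (zpow_mem (h3 h5) a) (zpow_mem (h4 h6) b)

open Cfsg.Agent.SL2 in
theorem exists_rigidIn_two [Finite F] {Γ : Subgroup (GLT F)} {s w : SLT F} (hQ : QPair s w)
    (hsΓ : Matrix.SpecialLinearGroup.toGL s ∈ Γ) (hwΓ : Matrix.SpecialLinearGroup.toGL w ∈ Γ)
    {y : GLT F} (hyΓ : y ∈ Γ) {e : F} (he : e ≠ 0) (hy : y.1 = e • 1 + e • s.1) :
    ∃ W : Subgroup (GLT F), RigidIn Γ W := by
  have h2 := hQ.two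
  have hw := hQ.inv
  have hs := sl_not_isScal_of_disc hQ.disc
  have ess : s.1 * s.1 = -1 := congrArg Subtype.val hQ.ss
  have ews : w.1 * s.1 = -(s.1 * w.1) := congrArg Subtype.val hQ.ws
  set Q : Subgroup (GLT F) := (q8 s w).map Matrix.SpecialLinearGroup.toGL with hQdef
  have hQ2 : IsPGroup 2 Q := by
    refine IsPGroup.map ?_ _
    rintro ⟨x, hx⟩
    exact ⟨2, Subtype.ext (hQ.pow_four hx)⟩
  have hyN : y ∈ Subgroup.normalizer (Q : Set (GLT F)) := by
    refine Subgroup.mem_normalizer_fintype ?_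
    rintro _ ⟨x, hx, rfl⟩
    induction hx using Subgroup.closure_induction with
    | mem x hx =>
      rcases hx with hx | hx
      · rw [hx]
        refine ⟨s, left_mem_q8 _ _, eq_mul_inv_of_mul_eq (Units.ext ?_)⟩
        change s.1 * y.1 = y.1 * s.1
        rw [hy, comm_of_eq]
      · rw [Set.mem_singleton_iff.1 hx]
        refine ⟨s * w, mul_mem (left_mem_q8 _ _) (right_mem_q8 _ _),
          eq_mul_inv_of_mul_eq (Units.ext ?_)⟩
        change s.1 * w.1 * y.1 = y.1 * w.1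
        have : s.1 * w.1 * s.1 = w.1 := congrArg Subtype.val hQ.sws
        rw [hy, mul_add, add_mul, mul_smul_comm, mul_smul_comm, this, smul_mul_assoc,
          smul_mul_assoc, mul_one, one_mul, add_comm]
    | one => simp
    | mul a b _ _ ha hb =>
      have := Q.mul_mem ha hb
      rwa [conj_mul, ← map_mul] at this
    | inv a _ ha =>
      have := Q.inv_mem ha
      rwa [conj_inv, ← map_inv] at this
  obtain ⟨k, m, hm, hkm⟩ := Nat.exists_eq_two_pow_mul_odd (orderOf_pos y).ne'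
  have hp : IsPGroup 2 (Subgroup.zpowers (y ^ m)) := by
    rintro ⟨_, n, rfl⟩
    refine ⟨k, Subtype.ext ?_⟩
    change ((y ^ m) ^ n) ^ 2 ^ k = 1
    rw [← zpow_natCast, ← _root_.zpow_mul, mul_comm, _root_.zpow_mul, zpow_natCast, ← pow_mul,
      mul_comm m, ← hkm, pow_orderOf_eq_one, _root_.one_zpow]
  have hodd : ∀ j : ℕ, ∃ a b : F, a ≠ 0 ∧ b ≠ 0 ∧ (y ^ (2 * j + 1)).1 = a • 1 + b • s.1 := by
    intro j
    induction j with
    | zero => exact ⟨e, e, he, he, by simpa using hy⟩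
    | succ j ih =>
      obtain ⟨a, b, ha, hb, e0⟩ := ih
      refine ⟨-2 * b * e ^ 2, 2 * a * e ^ 2, mul_ne_zero (mul_ne_zero (neg_ne_zero.2 h2) hb)
        (pow_ne_zero 2 he), mul_ne_zero (mul_ne_zero h2 ha) (pow_ne_zero 2 he), ?_⟩
      rw [show 2 * (j + 1) + 1 = 2 * j + 1 + 1 + 1 by ring, pow_succ, pow_succ, Units.val_mul,
        Units.val_mul, e0, hy]
      simp only [add_mul, mul_add, smul_mul_assoc, mul_smul_comm, ess, one_mul, mul_one,
        smul_neg, neg_mul, smul_add]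
      module
  obtain ⟨j, rfl⟩ := hm
  obtain ⟨a, b, ha, hb, hab⟩ := hodd j
  have hsQ : Matrix.SpecialLinearGroup.toGL s ∈ Q := ⟨s, left_mem_q8 _ _, rfl⟩
  have hwQ : Matrix.SpecialLinearGroup.toGL w ∈ Q := ⟨w, right_mem_q8 _ _, rfl⟩
  have hQΓ : Q ≤ Γ := by
    rw [hQdef, Subgroup.map_le_iff_le_comap, q8, Subgroup.closure_le]
    rintro _ (rfl | rfl)
    exacts [hsΓ, hwΓ]
  refine ⟨Subgroup.zpowers (y ^ (2 * j + 1)) ⊔ Q,
    sup_le (Subgroup.zpowers_le.2 (pow_mem hyΓ _)) hQΓ, hp.to_sup_of_normal_right' hQ2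
    (Subgroup.zpowers_le.2 (pow_mem hyN _)), fun A hA => ?_, fun T hT hWT _ x _ hx hxT => ?_⟩
  · exact qpair_isScal_of_comm hQ (hA _ (Subgroup.mem_sup_right hsQ) s.2)
      (hA _ (Subgroup.mem_sup_right hwQ) w.2)
  have hsT := hWT (Subgroup.mem_sup_right hsQ)
  have hwT := hWT (Subgroup.mem_sup_right hwQ)
  have hyT := hWT (Subgroup.mem_sup_left (Subgroup.mem_zpowers _))
  have key : ∀ z : GLT F, (∀ g ∈ T, z * g * z⁻¹ * g⁻¹ ∈ Subgroup.center _) →
      z ∉ Subgroup.center _ → ∃ c : F, z.1 = c • s.1 := by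
    intro z hz hz'
    obtain ⟨c, hc⟩ := gl_comm_center (hz _ hyT)
    have e1 : (z * y ^ (2 * j + 1) * z⁻¹).1 = c • (y ^ (2 * j + 1)).1 := by
      rw [Units.val_mul, Units.val_mul, hc, smul_mul_assoc, mul_assoc, Units.mul_inv, mul_one]
    have e2 := congrArg trace e1
    rw [Units.val_mul, Units.val_mul, trace_units_conj, trace_smul, hab, trace_comb, hQ.ts] at e2
    have hc1 : c = 1 := by
      have : (2 * a) * (c - 1) = 0 := by simp only [smul_eq_mul] at e2; linear_combination -e2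
      exact sub_eq_zero.1 ((mul_eq_zero.1 this).resolve_left (mul_ne_zero h2 ha))
    rw [hc1, one_smul, hab] at hc
    simp only [add_mul, mul_add, smul_mul_assoc, mul_smul_comm, one_mul, mul_one,
      add_right_inj] at hc
    obtain ⟨α, β, hz1⟩ := exists_of_comm hs (smul_right_injective _ hb hc)
    have hβ : β ≠ 0 := by
      rintro rfl
      exact hz' (gl_center_iff.2 ⟨α, by simpa using hz1⟩)
    obtain ⟨d, hd⟩ := gl_comm_center (hz _ hwT)
    change z.1 * w.1 = d • (w.1 * z.1) at hd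
    have e3 : (α • (1 : M2 F) + β • s.1) * w.1 = ((d * α) • (1 : M2 F) + (-(d * β)) • s.1) * w.1 := by
      rw [← hz1, hd, hz1]
      simp only [add_mul, mul_add, smul_mul_assoc, mul_smul_comm, ews, one_mul, mul_one]
      module
    have e4 := congrArg (· * (w⁻¹).1) e3
    simp only [mul_assoc, ← Matrix.SpecialLinearGroup.coe_mul, mul_inv_cancel,
      Matrix.SpecialLinearGroup.coe_one, mul_one] at e4
    obtain ⟨e5, e6⟩ := coeff_unique hs e4
    have hd1 : d = -1 := by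
      have : β * (d + 1) = 0 := by linear_combination e6
      exact eq_neg_of_add_eq_zero_left ((mul_eq_zero.1 this).resolve_left hβ)
    have hα : α = 0 := by
      have : 2 * α = 0 := by rw [hd1] at e5; linear_combination e5
      exact (mul_eq_zero.1 this).resolve_left h2
    exact ⟨β, by rw [hz1, hα, zero_smul, zero_add]⟩
  obtain ⟨z, hzT, hz', hz⟩ := exists_second_center hT hsT (fun h => hs (gl_mem_center_iff.1 h))
  obtain ⟨c, hc⟩ := key z hz hz'
  obtain ⟨d, hd⟩ := key _ (second_center_conj hxT hz) (fun h => hz' (by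
    have := (inferInstance : (Subgroup.center (GLT F)).Normal).conj_mem _ h x⁻¹
    convert this using 1
    group))
  have hc0 : c ≠ 0 := by
    rintro rfl
    rw [zero_smul] at hc
    exact z.ne_zero hc
  have e1 : x.1 * s.1 = (c⁻¹ * d) • (s.1 * x.1) := by
    have : x.1 * z.1 = (x * z * x⁻¹).1 * x.1 := by
      rw [← Units.val_mul, ← Units.val_mul, inv_mul_cancel_right]
    rw [hd, hc, mul_smul_comm, smul_mul_assoc] at this
    rw [mul_smul, ← this, smul_smul, inv_mul_cancel₀ hc0, one_smul]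
  have e2 : (c⁻¹ * d) * (c⁻¹ * d) = 1 := by
    have := congrArg det e1
    rw [det_smul, det_mul, det_mul, s.2, Fintype.card_fin, mul_one, one_mul, sq] at this
    exact mul_right_cancel₀ x.det_ne_zero (this.symm.trans (one_mul _).symm)
  have e3 : Commute x (Matrix.SpecialLinearGroup.toGL s) := by
    refine commute_of_odd_of_sq hx (Units.ext ?_)
    change x.1 * x.1 * s.1 = s.1 * (x.1 * x.1)
    rw [mul_assoc, e1, mul_smul_comm, ← mul_assoc x.1, e1, smul_mul_assoc, smul_smul, e2,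
      one_smul, mul_assoc]
  have e3' : x.1 * s.1 = s.1 * x.1 := congrArg Units.val e3.eq
  set w' := Matrix.SpecialLinearGroup.toGL w with hw'
  have e4 : Commute (w' * x * w'⁻¹) (Matrix.SpecialLinearGroup.toGL s) := by
    have := (e3.inv_right).map (MulAut.conj w')
    simp only [MulAut.conj_apply] at this
    rwa [← map_inv, hw', ← map_inv, ← map_mul, ← map_mul, ← conj_inv, hw, inv_inv, map_inv] at this
  have e5 : Commute x (w' * x * w'⁻¹) :=
    Units.ext (comm_of_comm hs e3' (congrArg Units.val e4.eq))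
  have f1 := mul_mem ((Subgroup.mem_normalizer_iff.1 hxT _).1 hwT) (inv_mem hwT)
  obtain ⟨l, hl⟩ := hT ⟨_, f1⟩
  have f2 : x * w' * x⁻¹ * w'⁻¹ = 1 := by
    refine eq_one_of_odd_of_two hx ?_ (congrArg Subtype.val hl)
    have : x * w' * x⁻¹ * w'⁻¹ = x * (w' * x * w'⁻¹)⁻¹ := by group
    rw [this, e5.inv_right.mul_pow, inv_pow, conj_pow, pow_orderOf_eq_one]
    simp
  have f3 : x * w' = w' * x := by rwa [mul_inv_eq_one, mul_inv_eq_iff_eq_mul] at f2
  exact gl_center_iff.2 (qpair_isScal_of_comm hQ e3' (congrArg Units.val f3))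

end Cfsg.Agent.GLn
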