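import Cfsg.Agent.GLn.PronOdd
import Cfsg.Agent.S2431

/-!
Sylow 2-subgroups of `GL₂(q)`, `SL₂(q)` and `PSL₂(q)` for odd `q`: pronormality of overgroups.
-/

set_option autoImplicit false

open Matrix

namespace Cfsg.Agent.GLn

open Cfsg.Agent.SL2

variable {F : Type*} [Field F]

theorem qpair_isScal_of_comm {s w : SLT F} (h : QPair s w) {A : M2 F} (h1 : A * s.1 = s.1 * A)
    (h2 : A * w.1 = w.1 * A) : ∃ c : F, A = c • 1 := by
  have hs := sl_not_isScal_of_disc h.disc
  obtain ⟨a, b, rfl⟩ := exists_of_comm hs h1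
  by_cases hb : b = 0
  · exact ⟨a, by simp [hb]⟩
  exfalso
  simp only [add_mul, mul_add, smul_mul_assoc, mul_smul_comm, one_mul, mul_one,
    add_right_inj] at h2
  exact h.w_not_mem (mem_cent_sl.2 (smul_right_injective _ hb h2).symm)

theorem exists_rigid_two [Finite F] (h2 : (2 : F) ≠ 0) : ∃ W : Subgroup (GLT F), Rigid W := by
  obtain ⟨w, hw⟩ := exists_inverts (disc_of_trace_zero h2 (trace_wS (F := F)))
  set s : SLT F := wS with hsdef
  have hQ : QPair s w := ⟨h2, trace_wS, hw⟩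
  have hs := sl_not_isScal_of_disc hQ.disc
  have ess : s.1 * s.1 = -1 := congrArg Subtype.val hQ.ss
  have ews : w.1 * s.1 = -(s.1 * w.1) := congrArg Subtype.val hQ.ws
  obtain ⟨y, hy⟩ : ∃ y : GLT F, y.1 = (1 : F) • 1 + (1 : F) • s.1 :=
    ⟨mkGL _ (by rw [det_comb, s.2, hQ.ts]; norm_num; exact fun h => h2 (by linear_combination h)),
      rfl⟩
  set Q : Subgroup (GLT F) := (q8 s w).map Matrix.SpecialLinearGroup.toGL with hQdef
  have hQ2 : IsPGroup 2 Q := by
    refine IsPGroup.map ?_ _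
    rintro ⟨x, hx⟩
    exact ⟨2, Subtype.ext (hQ.pow_four hx)⟩
  have hyN : y ∈ Subgroup.normalizer (Q : Set (GLT F)) := by
    refine Subgroup.mem_normalizer_fintype ?_
    rintro _ ⟨x, hx, rfl⟩
    induction hx using Subgroup.closure_induction with
    | mem x hx =>
      rcases hx with rfl | rfl
      · refine ⟨s, left_mem_q8 _ _, eq_mul_inv_of_mul_eq (Units.ext ?_)⟩
        change s.1 * y.1 = y.1 * s.1
        rw [hy, comm_of_eq]
      · refine ⟨s * x, mul_mem (left_mem_q8 _ _) (right_mem_q8 _ _),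
          eq_mul_inv_of_mul_eq (Units.ext ?_)⟩
        change s.1 * x.1 * y.1 = y.1 * x.1
        have : s.1 * x.1 * s.1 = x.1 := congrArg Subtype.val hQ.sws
        rw [hy, one_smul, one_smul, mul_add, add_mul, this, mul_one, one_mul, add_comm]
    | one => simp
    | mul a b _ _ ha hb =>
      have := Q.mul_mem ha hb
      rwa [conj_mul, ← map_mul] at this
    | inv a _ ha =>
      have := Q.inv_mem ha
      rwa [conj_inv, ← map_inv] at this
  obtain ⟨k, m, hm, hkm⟩ := Nat.exists_eq_two_pow_mul_odd (orderOf_pos y).ne'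
  have hp : IsPGroup 2 (Subgroup.zpowers (y ^ m)) := by
    rintro ⟨_, n, rfl⟩
    refine ⟨k, Subtype.ext ?_⟩
    change ((y ^ m) ^ n) ^ 2 ^ k = 1
    rw [← zpow_natCast, ← _root_.zpow_mul, mul_comm, _root_.zpow_mul, zpow_natCast, ← pow_mul,
      mul_comm m, ← hkm, pow_orderOf_eq_one, _root_.one_zpow]
  have hodd : ∀ j : ℕ, ∃ a b : F, a ≠ 0 ∧ b ≠ 0 ∧ (y ^ (2 * j + 1)).1 = a • 1 + b • s.1 := by
    intro j
    induction j with
    | zero => exact ⟨1, 1, one_ne_zero, one_ne_zero, by simpa using hy⟩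
    | succ j ih =>
      obtain ⟨a, b, ha, hb, e⟩ := ih
      refine ⟨-2 * b, 2 * a, mul_ne_zero (neg_ne_zero.2 h2) hb, mul_ne_zero h2 ha, ?_⟩
      rw [show 2 * (j + 1) + 1 = 2 * j + 1 + 1 + 1 by ring, pow_succ, pow_succ, Units.val_mul,
        Units.val_mul, e, hy]
      simp only [add_mul, mul_add, smul_mul_assoc, mul_smul_comm, ess, one_mul, mul_one,
        one_smul, smul_neg, neg_mul]
      module
  obtain ⟨j, rfl⟩ := hm
  obtain ⟨a, b, ha, hb, hab⟩ := hodd j
  have hsQ : Matrix.SpecialLinearGroup.toGL s ∈ Q := ⟨s, left_mem_q8 _ _, rfl⟩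
  have hwQ : Matrix.SpecialLinearGroup.toGL w ∈ Q := ⟨w, right_mem_q8 _ _, rfl⟩
  refine ⟨Subgroup.zpowers (y ^ (2 * j + 1)) ⊔ Q, hp.to_sup_of_normal_right' hQ2
    (Subgroup.zpowers_le.2 (pow_mem hyN _)), fun A hA => ?_, fun T hT hWT x hx hxT => ?_⟩
  · exact qpair_isScal_of_comm hQ (hA _ (Subgroup.mem_sup_right hsQ) s.2)
      (hA _ (Subgroup.mem_sup_right hwQ) w.2)
  have hsT := hWT (Subgroup.mem_sup_right hsQ)
  have hwT := hWT (Subgroup.mem_sup_right hwQ)
  have hyT := hWT (Subgroup.mem_sup_left (Subgroup.mem_zpowers _))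
  have key : ∀ z : GLT F, (∀ g ∈ T, z * g * z⁻¹ * g⁻¹ ∈ Subgroup.center _) →
      z ∉ Subgroup.center _ → ∃ c : F, z.1 = c • s.1 := by
    intro z hz hz'
    obtain ⟨c, hc⟩ := gl_comm_center (hz _ hyT)
    have e1 : (z * y ^ (2 * j + 1) * z⁻¹).1 = c • (y ^ (2 * j + 1)).1 := by
      rw [Units.val_mul, Units.val_mul, hc, smul_mul_assoc, mul_assoc, Units.mul_inv, mul_one]
    have e2 := congrArg trace e1
    rw [Units.val_mul, Units.val_mul, trace_units_conj, trace_smul, hab, trace_comb, hQ.ts] at e2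
    have hc1 : c = 1 := by
      have : (2 * a) * (c - 1) = 0 := by simp only [smul_eq_mul] at e2; linear_combination -e2
      exact sub_eq_zero.1 ((mul_eq_zero.1 this).resolve_left (mul_ne_zero h2 ha))
    rw [hc1, one_smul, hab] at hc
    simp only [add_mul, mul_add, smul_mul_assoc, mul_smul_comm, one_mul, mul_one,
      add_right_inj] at hc
    obtain ⟨α, β, hz1⟩ := exists_of_comm hs (smul_right_injective _ hb hc)
    have hβ : β ≠ 0 := by
      rintro rfl
      exact hz' (gl_center_iff.2 ⟨α, by simpa using hz1⟩)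
    obtain ⟨d, hd⟩ := gl_comm_center (hz _ hwT)
    change z.1 * w.1 = d • (w.1 * z.1) at hd
    have e3 : (α • (1 : M2 F) + β • s.1) * w.1 = ((d * α) • (1 : M2 F) + (-(d * β)) • s.1) * w.1 := by
      rw [← hz1, hd, hz1]
      simp only [add_mul, mul_add, smul_mul_assoc, mul_smul_comm, ews, one_mul, mul_one]
      module
    have e4 := congrArg (· * (w⁻¹).1) e3
    simp only [mul_assoc, ← Matrix.SpecialLinearGroup.coe_mul, mul_inv_cancel,
      Matrix.SpecialLinearGroup.coe_one, mul_one] at e4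
    obtain ⟨e5, e6⟩ := coeff_unique hs e4
    have hd1 : d = -1 := by
      have : β * (d + 1) = 0 := by linear_combination e6
      exact eq_neg_of_add_eq_zero_left ((mul_eq_zero.1 this).resolve_left hβ)
    have hα : α = 0 := by
      have : 2 * α = 0 := by rw [hd1] at e5; linear_combination e5
      exact (mul_eq_zero.1 this).resolve_left h2
    exact ⟨β, by rw [hz1, hα, zero_smul, zero_add]⟩
  obtain ⟨z, hzT, hz', hz⟩ := exists_second_center hT hsT (fun h => hs (gl_mem_center_iff.1 h))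
  obtain ⟨c, hc⟩ := key z hz hz'
  obtain ⟨d, hd⟩ := key _ (second_center_conj hxT hz) (fun h => hz' (by
    have := (inferInstance : (Subgroup.center (GLT F)).Normal).conj_mem _ h x⁻¹
    convert this using 1
    group))
  have hc0 : c ≠ 0 := by
    rintro rfl
    rw [zero_smul] at hc
    exact z.ne_zero hc
  have e1 : x.1 * s.1 = (c⁻¹ * d) • (s.1 * x.1) := by
    have : x.1 * z.1 = (x * z * x⁻¹).1 * x.1 := by
      rw [← Units.val_mul, ← Units.val_mul, inv_mul_cancel_right]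
    rw [hd, hc, mul_smul_comm, smul_mul_assoc] at this
    rw [mul_smul, ← this, smul_smul, inv_mul_cancel₀ hc0, one_smul]
  have e2 : (c⁻¹ * d) * (c⁻¹ * d) = 1 := by
    have := congrArg det e1
    rw [det_smul, det_mul, det_mul, s.2, Fintype.card_fin, mul_one, one_mul, sq] at this
    exact mul_right_cancel₀ x.det_ne_zero (this.symm.trans (one_mul _).symm)
  have e3 : Commute x (Matrix.SpecialLinearGroup.toGL s) := by
    refine commute_of_odd_of_sq hx (Units.ext ?_)
    change x.1 * x.1 * s.1 = s.1 * (x.1 * x.1)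
    rw [mul_assoc, e1, mul_smul_comm, ← mul_assoc x.1, e1, smul_mul_assoc, smul_smul, e2,
      one_smul, mul_assoc]
  have e3' : x.1 * s.1 = s.1 * x.1 := congrArg Units.val e3.eq
  set w' := Matrix.SpecialLinearGroup.toGL w with hw'
  have e4 : Commute (w' * x * w'⁻¹) (Matrix.SpecialLinearGroup.toGL s) := by
    have := (e3.inv_right).map (MulAut.conj w')
    simp only [MulAut.conj_apply] at this
    rwa [← map_inv, hw', ← map_inv, ← map_mul, ← map_mul, ← conj_inv, hw, inv_inv, map_inv] at this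
  have e5 : Commute x (w' * x * w'⁻¹) :=
    Units.ext (comm_of_comm hs e3' (congrArg Units.val e4.eq))
  have f1 := mul_mem ((Subgroup.mem_normalizer_iff.1 hxT _).1 hwT) (inv_mem hwT)
  obtain ⟨l, hl⟩ := hT ⟨_, f1⟩
  have f2 : x * w' * x⁻¹ * w'⁻¹ = 1 := by
    refine eq_one_of_odd_of_two hx ?_ (congrArg Subtype.val hl)
    have : x * w' * x⁻¹ * w'⁻¹ = x * (w' * x * w'⁻¹)⁻¹ := by group
    rw [this, e5.inv_right.mul_pow, inv_pow, conj_pow, pow_orderOf_eq_one]
    simp
  have f3 : x * w' = w' * x := by rwa [mul_inv_eq_one, mul_inv_eq_iff_eq_mul] at f2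
  exact gl_center_iff.2 (qpair_isScal_of_comm hQ e3' (congrArg Units.val f3))

theorem exists_rigid_two_pow [Finite F] (h2 : (2 : F) ≠ 0) (k : ℕ) :
    ∃ W : Subgroup (GL (Fin (2 ^ (k + 2))) F), Rigid W ∧ ∀ g ∈ W, g.1.det = 1 := by
  have step : ∀ j : ℕ, (∃ W : Subgroup (GL (Fin (2 ^ (j + 1))) F), Rigid W) →
      ∃ W : Subgroup (GL (Fin (2 ^ (j + 2))) F), Rigid W ∧ ∀ g ∈ W, g.1.det = 1 := by
    rintro j ⟨W, hW⟩
    have : Nontrivial (Fin (2 ^ (j + 1))) :=
      Fin.nontrivial_iff_two_le.2 (Nat.one_lt_two_pow (by omega))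
    obtain ⟨W', h1, h2⟩ := hW.step h2 (by rw [Fintype.card_fin, pow_succ]; simp)
    obtain ⟨W'', h3, h4⟩ := h1.reindex (κ := Fin (2 ^ (j + 2)))
      (finSumFinEquiv.trans (finCongr (by ring)))
    exact ⟨W'', h3, h4 h2⟩
  induction k with
  | zero => exact step 0 (exists_rigid_two h2)
  | succ k ih =>
    obtain ⟨W, hW, -⟩ := ih
    exact step (k + 1) ⟨W, hW⟩

theorem sylow_eq_q8 [Fintype F] (hodd : Odd (Fintype.card F)) (hns : ¬ IsSquare (2 : F))
    (S : Sylow 2 (SLT F)) : ∃ s w, QPair s w ∧ (S : Subgroup (SLT F)) = q8 s w := by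
  have h2 := two_ne_zero_of_odd hodd
  obtain ⟨s, hs0, hS⟩ := GL2Char.exists_sylow_two_le_ncen hodd S
  have hs := disc_of_trace_zero h2 hs0
  have hnle : ¬ (S : Subgroup (SLT F)) ≤ Cen s := fun h =>
    S.not_dvd_index ((Dvd.intro _ (two_mul_index_ncen hs)).trans (Subgroup.index_dvd_of_le h))
  obtain ⟨w, hw, hw'⟩ := SetLike.not_le_iff_exists.mp hnle
  have hw2 := inverts_of_mem_ncen hs (hS hw) hw'
  have hsS : s ∈ (S : Subgroup (SLT F)) :=
    S2431.two_elt_mem S hs hS (self_mem_cent s) (k := 2) (pow_four_of_trace_zero hs0)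
  have hQ : QPair s w := ⟨h2, hs0, hw2⟩
  have key : ∀ x ∈ (S : Subgroup (SLT F)), x ∈ Cen s → x ∈ q8 s w := fun x hx hc => by
    obtain ⟨k, hk⟩ := S.isPGroup' ⟨_, hx⟩
    rw [hQ.mem_iff]
    rcases pow_two_pow_cases hns hs0 hc (congrArg Subtype.val hk) with e | e | e | e <;> simp [e]
  refine ⟨s, w, hQ, le_antisymm (fun x hx => ?_) ((Subgroup.closure_le _).2 ?_)⟩
  · by_cases hc : x ∈ Cen s
    · exact key x hx hc
    · have := key (x * w) (mul_mem hx hw)
        (mul_mem_cen_of_inverts hw2 (inverts_of_mem_ncen hs (hS hx) hc))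
      simpa using mul_mem this (inv_mem (right_mem_q8 s w))
  · rintro _ (rfl | rfl)
    exacts [hsS, hw]

theorem psl_two_commute {x y : SLT F} (hx : x.1.trace ≠ 0) (h : Commute (pr y) (pr x)) :
    y.1 * x.1 = x.1 * y.1 := by
  have h1 : pr (y * x * y⁻¹) = pr x := by
    rw [map_mul, map_mul, map_inv, h.eq, mul_inv_cancel_right]
  rcases pr_eq_iff.1 h1 with e | e
  · exact mem_cent_sl.1 (mem_cen'.2 e)
  · by_cases h2 : (2 : F) = 0
    · exact mem_cent_sl.1 (mem_cen'.2 (pr_injective h2 h1))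
    · exfalso
      have := sl_trace_conj y x
      rw [e] at this
      change (-x.1).trace = _ at this
      rw [trace_neg] at this
      have h3 : 2 * x.1.trace = 0 := by linear_combination -this
      exact hx ((mul_eq_zero.1 h3).resolve_left h2)

theorem psl_two_invol_eq [Finite F] (r : ℕ) (R : Subgroup (PSLT F)) (hr : r.Prime) (hr2 : r ≠ 2)
    (hR : IsPGroup r R) (x : PSLT F) (hx : x ∈ R) (y : PSLT F) (hy : y ∈ R) (hx1 : x ≠ 1)
    (hy1 : y ≠ 1) (u v : PSLT F) (hu : u * u = 1) (hv : v * v = 1) (hu1 : u ≠ 1) (hv1 : v ≠ 1)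
    (hux : Commute u x) (hvy : Commute v y) (h2 : (2 : F) ≠ 0) : u = v := by
  have : Fact r.Prime := ⟨hr⟩
  have : Nontrivial R := ⟨⟨⟨x, hx⟩, 1, fun h => hx1 (congrArg Subtype.val h)⟩⟩
  have := hR.center_nontrivial
  obtain ⟨⟨⟨z, hz⟩, hz'⟩, hz1⟩ := exists_ne (1 : Subgroup.center R)
  have hz1' : z ≠ 1 := fun h => hz1 (Subtype.ext (Subtype.ext h))
  have hxz : Commute x z := congrArg Subtype.val (Subgroup.mem_center_iff.1 hz' ⟨x, hx⟩)
  have hyz : Commute y z := congrArg Subtype.val (Subgroup.mem_center_iff.1 hz' ⟨y, hy⟩)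
  have htr : ∀ g : SLT F, pr g ∈ R → pr g ≠ 1 → g.1.trace ≠ 0 := by
    intro g hg hg1 ht
    obtain ⟨k, hk⟩ := hR ⟨_, hg⟩
    refine hg1 (eq_one_of_odd_of_two (k := 1) ((hr.odd_of_ne_two hr2).pow)
      (congrArg Subtype.val hk) ?_)
    rw [pow_one, sq, ← map_mul, sq_eq_neg_one_of_trace ht, pr_neg, map_one]
  obtain ⟨x, rfl⟩ := pr_surjective x
  obtain ⟨y, rfl⟩ := pr_surjective y
  obtain ⟨z, rfl⟩ := pr_surjective z
  obtain ⟨u, rfl⟩ := pr_surjective u
  obtain ⟨v, rfl⟩ := pr_surjective v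
  have hxs : ¬ IsScal x.1 := fun h => hx1 (pr_eq_one_iff.2 h)
  have hys : ¬ IsScal y.1 := fun h => hy1 (pr_eq_one_iff.2 h)
  have hzs : ¬ IsScal z.1 := fun h => hz1' (pr_eq_one_iff.2 h)
  have hus : ¬ IsScal u.1 := fun h => hu1 (pr_eq_one_iff.2 h)
  have hvs : ¬ IsScal v.1 := fun h => hv1 (pr_eq_one_iff.2 h)
  have e1 := comm_of_comm hxs (psl_two_commute (htr x hx hx1) hux)
    (psl_two_commute (htr x hx hx1) hxz.symm)
  have e2 := comm_of_comm hys (psl_two_commute (htr y hy hy1) hvy)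
    (psl_two_commute (htr y hy hy1) hyz.symm)
  obtain ⟨a, b, hab⟩ := exists_of_comm hvs (comm_of_comm hzs e1 e2)
  have tu : u.1.trace = 0 := (isScal_sq_iff hus).1 (pr_eq_one_iff.1 (by rw [map_mul, hu]))
  have tv : v.1.trace = 0 := (isScal_sq_iff hvs).1 (pr_eq_one_iff.1 (by rw [map_mul, hv]))
  have f1 := congrArg trace hab
  have f2 := congrArg det hab
  rw [trace_comb, tu, tv] at f1
  rw [det_comb, u.2, v.2, tv] at f2
  have ha : a = 0 := by
    have : 2 * a = 0 := by linear_combination -f1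
    exact (mul_eq_zero.1 this).resolve_left h2
  have hb : (b - 1) * (b + 1) = 0 := by rw [ha] at f2; linear_combination -f2
  rw [pr_eq_iff]
  rcases mul_eq_zero.1 hb with hb | hb
  · left
    exact sl_ext (by rw [hab, ha, sub_eq_zero.1 hb]; simp)
  · right
    exact sl_ext (by rw [hab, ha, eq_neg_of_add_eq_zero_left hb]; simp)

theorem pronormal_PSL_two [Fintype F] (hodd : Odd (Fintype.card F)) (H : Subgroup (PSLT F))
    (hH : Odd H.index) : IsPronormal H := by
  have h2 := two_ne_zero_of_odd hodd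
  by_cases hns : IsSquare (2 : F)
  · refine IsPronormal.of_comap pr pr_surjective ?_
    obtain ⟨S, hS⟩ := exists_sylow_le_of_odd_index' (H.comap pr)
      (by rwa [Subgroup.index_comap_of_surjective _ pr_surjective])
    refine pronormal_of_normalizer_le _ S hS fun g hg => Subgroup.le_normalizer (hS ?_)
    have h3 := FiniteField.isSquare_two_iff.1 hns
    rwa [(S2431.result hodd S).2.1 (by obtain ⟨k, hk⟩ := hodd; omega)] at hg
  obtain ⟨V, hV⟩ := exists_sylow_le_of_odd_index' H hH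
  obtain ⟨S, rfl⟩ := Sylow.mapSurjective_surjective pr_surjective 2 V
  obtain ⟨s, w, hQ, hS⟩ := sylow_eq_q8 hodd hns S
  have hmem : ∀ x : SLT F, pr x ∈ (S.mapSurjective pr_surjective : Subgroup (PSLT F)) ↔
      x ∈ q8 s w := by
    intro x
    rw [Sylow.coe_mapSurjective, hS]
    refine ⟨?_, fun h => ⟨x, h, rfl⟩⟩
    rintro ⟨y, hy, e⟩
    rcases pr_eq_iff.1 e.symm with rfl | rfl
    exacts [hy, hQ.neg_mem hy]
  have hnorm : ∀ g : SLT F, pr g ∈ Subgroup.normalizer
      ((S.mapSurjective pr_surjective : Subgroup (PSLT F)) : Set (PSLT F)) →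
      g ∈ Subgroup.normalizer (q8 s w : Set (SLT F)) := by
    intro g hg
    rw [Subgroup.mem_normalizer_iff] at hg ⊢
    intro x
    rw [← hmem, ← hmem, hg, map_mul, map_mul, map_inv]
  have hsq : ∀ v ∈ (S.mapSurjective pr_surjective : Subgroup (PSLT F)), v * v = 1 := by
    intro v hv
    obtain ⟨v, rfl⟩ := pr_surjective v
    rcases hQ.trace_cases ((hmem v).1 hv) with h | h
    · rw [pr_eq_one_iff.2 h, mul_one]
    · rw [← map_mul, sq_eq_neg_one_of_trace h, pr_neg, map_one]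
  have hcomm : ∀ u ∈ (S.mapSurjective pr_surjective : Subgroup (PSLT F)),
      ∀ v ∈ (S.mapSurjective pr_surjective : Subgroup (PSLT F)), u * v = v * u := by
    intro u hu v hv
    have h1 := inv_eq_of_mul_eq_one_right (hsq _ (mul_mem hu hv))
    rw [_root_.mul_inv_rev, inv_eq_of_mul_eq_one_right (hsq u hu),
      inv_eq_of_mul_eq_one_right (hsq v hv)] at h1
    exact h1.symm
  have hne : ∀ g : SLT F, g.1.trace = 0 → pr g ≠ 1 := fun g hg h =>
    sl_not_isScal_of_disc (disc_of_trace_zero h2 hg) (pr_eq_one_iff.1 h)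
  have hs1 := hne s hQ.ts
  have hw1 := hne w hQ.tw
  have hsV := (hmem s).2 (left_mem_q8 s w)
  have hwV := (hmem w).2 (right_mem_q8 s w)
  have hsw : pr s ≠ pr w := fun h => hne _ hQ.tsw (by rw [map_mul, h, hsq _ hwV])
  have ho3 : pr hQ.om ^ 3 = 1 := by rw [← map_pow, hQ.om_cube, map_one]
  refine pronormal_of_four _ hsq hsV hwV hs1 hw1 hsw (fun g hg hg' v hv e => ?_)
    (fun g hg hg' K hK hgK => ?_)
    (fun r R hr hr2 hR x hx y hy hx1 hy1 u v hu hv hu1 hv1 hux hvy =>
      psl_two_invol_eq r R hr hr2 hR x hx y hy hx1 hy1 u v hu hv hu1 hv1 hux hvy h2) H hV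
  · obtain ⟨g, rfl⟩ := pr_surjective g
    have e' : Commute (pr g) v := mul_inv_eq_iff_eq_mul.1 e
    have h3 : Commute (pr hQ.om) v := by
      rcases hQ.normalizer_cases hns (hnorm g hg) with h | h | h
      · exact absurd ((hmem g).2 h) hg'
      · have h4 : Commute (pr (hQ.om * g)) v := hcomm _ ((hmem _).2 h) _ hv
        simpa using h4.mul_left e'.inv_left
      · have h4 : Commute (pr (hQ.om ^ 2 * g)) v := hcomm _ ((hmem _).2 h) _ hv
        have h5 : Commute (pr hQ.om ^ 2) v := by simpa using h4.mul_left e'.inv_left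
        have h6 := h5.pow_left 2
        rwa [← pow_mul, show 2 * 2 = 3 + 1 from rfl, pow_succ, ho3, one_mul] at h6
    obtain ⟨v, rfl⟩ := pr_surjective v
    have h4 : pr (hQ.om * v * hQ.om⁻¹) = pr v := by
      rw [map_mul, map_mul, map_inv, h3.eq, mul_inv_cancel_right]
    have c1 : pr (hQ.om * s * hQ.om⁻¹) ≠ pr s := by
      rw [hQ.om_s, map_mul]; simpa using hw1
    have c2 : pr (hQ.om * w * hQ.om⁻¹) ≠ pr w := by rw [hQ.om_w]; exact hsw
    have c3 : pr (hQ.om * (s * w) * hQ.om⁻¹) ≠ pr (s * w) := by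
      rw [hQ.om_sw, map_mul]; simpa using hs1
    rcases hQ.mem_iff.1 ((hmem v).1 hv) with rfl | rfl | rfl | rfl | rfl | rfl | rfl | rfl
    · simp
    · simp
    · exact absurd h4 c1
    · exact absurd (by simpa only [mul_neg, neg_mul, pr_neg] using h4) c1
    · exact absurd h4 c2
    · exact absurd (by simpa only [mul_neg, neg_mul, pr_neg] using h4) c2
    · exact absurd h4 c3
    · exact absurd (by simpa only [mul_neg, neg_mul, pr_neg] using h4) c3
  · obtain ⟨g, rfl⟩ := pr_surjective g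
    have h3 : pr hQ.om ∈ K := by
      rcases hQ.normalizer_cases hns (hnorm g hg) with h | h | h
      · exact absurd ((hmem g).2 h) hg'
      · simpa using K.mul_mem (hK ((hmem _).2 h)) (K.inv_mem hgK)
      · have h5 : pr hQ.om ^ 2 ∈ K := by
          simpa using K.mul_mem (hK ((hmem _).2 h)) (K.inv_mem hgK)
        have h6 := pow_mem h5 2
        rwa [← pow_mul, show 2 * 2 = 3 + 1 from rfl, pow_succ, ho3, one_mul] at h6
    intro g' hg'
    obtain ⟨g', rfl⟩ := pr_surjective g'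
    rcases hQ.normalizer_cases hns (hnorm g' hg') with h | h | h
    · exact hK ((hmem _).2 h)
    · simpa using K.mul_mem (K.inv_mem h3) (hK ((hmem _).2 h))
    · simpa using K.mul_mem (K.inv_mem (pow_mem h3 2)) (hK ((hmem _).2 h))

end Cfsg.Agent.GLn
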