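import Cfsg.Agent.GLn.RegUni

/-! Generation of `SL_n` by two regular unipotent elements. -/

open Matrix Finset

namespace Cfsg.Agent.GLn

variable {F : Type*} [Field F] {n : ℕ}

local notation "E" => stdv F n
local notation "J" => jord F n
local notation "SLn" => Matrix.SpecialLinearGroup (Fin n) F

theorem vecMul_eq_of_dot {ι : Type*} [Fintype ι] [DecidableEq ι] {A : Matrix ι ι F} {w w' : ι → F}
    (h : ∀ x, w' ⬝ᵥ A *ᵥ x = w ⬝ᵥ x) : w' ᵥ* A = w :=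
  dotProduct_eq _ _ fun x => by rw [← dotProduct_mulVec, h]

theorem stdv_dot_jord (j : ℕ) (x : Fin n → F) : E j ⬝ᵥ (J).1 *ᵥ x = E j ⬝ᵥ x + E (j + 1) ⬝ᵥ x := by
  rw [dotProduct_mulVec, stdv_vecMul_jord, add_dotProduct]

theorem stdv_dot_jord_inv {j : ℕ} (hj : j + 1 < n) :
    E 1 ⬝ᵥ ((J)⁻¹).1 *ᵥ E (j + 1) = (-1) ^ j := by
  have h0 : ((J)⁻¹).1 *ᵥ E 0 = E 0 := sl_inv_mulVec _ jord_mulVec_zero
  have h1 : ∀ j, j + 1 < n → ((J)⁻¹).1 *ᵥ E (j + 1) = E (j + 1) - ((J)⁻¹).1 *ᵥ E j := fun j hj => by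
    rw [eq_sub_iff_add_eq, ← mulVec_add]
    exact sl_inv_mulVec _ (jord_mulVec_succ hj)
  induction j with
  | zero => rw [h1 0 hj, h0]; simp [stdv_dot_stdv]; omega
  | succ j ih => rw [h1 _ hj, dotProduct_sub, ih (by omega), stdv_dot_stdv]; simp [pow_succ]

theorem eq_top_of_pair [Finite F] (hn : 2 ≤ n) {π κ : F} (hπ : AddGen π) (hπ0 : π ≠ 0)
    {f : Fin n → F} (hf0 : E 0 ⬝ᵥ f = 0) (hf1 : E 1 ⬝ᵥ f = 0) (hf2 : E 2 ⬝ᵥ f = 0)
    (hfm : E (n - 1) ⬝ᵥ f = π) (hκ : E 1 ⬝ᵥ ((J)⁻¹).1 *ᵥ f = κ) (hκ0 : κ ≠ 0) (hκ4 : κ ≠ 4)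
    {H : Subgroup SLn} (hJ : J ∈ H) {z : SLn} (hzH : z ∈ H)
    (hz : ∀ x, z.1 *ᵥ x = x + (E 1 ⬝ᵥ x) • E 0 + (E 0 ⬝ᵥ x + E 1 ⬝ᵥ x) • f) : H = ⊤ := by
  obtain ⟨α₁, hα⟩ : ∃ α₁ : Fin n → F, ∀ x, E 1 ⬝ᵥ ((J)⁻¹).1 *ᵥ x = α₁ ⬝ᵥ x :=
    ⟨_, fun x => dotProduct_mulVec _ _ _⟩
  obtain ⟨f₁, hf⟩ : ∃ f₁, (J).1 *ᵥ f = f₁ := ⟨_, rfl⟩
  have h1 : E 0 ⬝ᵥ E 0 = 1 := by simp [stdv_dot_stdv]; omega
  have h3 : E 0 ⬝ᵥ f₁ = 0 := by rw [← hf, stdv_dot_jord, hf0, hf1, add_zero]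
  have h4 : E 1 ⬝ᵥ E 0 = 0 := by simp [stdv_dot_stdv]
  have h6 : E 1 ⬝ᵥ f₁ = 0 := by rw [← hf, stdv_dot_jord, hf1, hf2, add_zero]
  have h7 : α₁ ⬝ᵥ E 0 = 0 := by rw [← hα, sl_inv_mulVec _ jord_mulVec_zero, h4]
  have h8 : α₁ ⬝ᵥ f = κ := by rw [← hα, hκ]
  have h9 : α₁ ⬝ᵥ f₁ = 0 := by rw [← hα, sl_inv_mulVec _ hf, hf1]
  have hz1 : ∀ x, (J * z * (J)⁻¹).1 *ᵥ x = x + (α₁ ⬝ᵥ x) • E 0 + (E 0 ⬝ᵥ x) • f₁ := fun x => by
    rw [sl_mul_mulVec, sl_mul_mulVec, hz, ← stdv_dot_jord 0, hα, mulVec_add, mulVec_add,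
      mulVec_smul, mulVec_smul, jord_mulVec_zero, hf, ← sl_mul_mulVec, mul_inv_cancel,
      sl_one_mulVec]
  have hz1H : J * z * (J)⁻¹ ∈ H := H.mul_mem (H.mul_mem hJ hzH) (H.inv_mem hJ)
  generalize J * z * (J)⁻¹ = z₁ at hz1 hz1H
  have hz2 : ∀ x, (z₁⁻¹).1 *ᵥ x = x - (α₁ ⬝ᵥ x) • E 0 + (α₁ ⬝ᵥ x - E 0 ⬝ᵥ x) • f₁ := fun x =>
    sl_inv_mulVec _ (by
      simp only [hz1, dotProduct_add, dotProduct_sub, dotProduct_smul, *]; module)
  have t0 : TIn H f₁ (E 1) := tIn_of_pair hκ0 hκ4 h1 hf0 h3 h4 hf1 h6 h7 h8 h9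
    (H.mul_mem hzH (H.inv_mem hz1H)) fun x => by
      simp only [sl_mul_mulVec, hz, hz2, dotProduct_add, dotProduct_sub, dotProduct_smul, *]
      module
  have t1 : TIn H f (E 1 + E 2) := t0.conj (H.inv_mem hJ) (sl_inv_mulVec _ hf) (by
    rw [← stdv_vecMul_jord, vecMul_vecMul, ← Matrix.SpecialLinearGroup.coe_mul, mul_inv_cancel,
      Matrix.SpecialLinearGroup.coe_one, vecMul_one])
  have hz1f : z₁.1 *ᵥ f = f + κ • E 0 := by rw [hz1, h8, hf0, zero_smul, add_zero]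
  obtain ⟨c, hc, t2⟩ : ∃ c : F, c ≠ 0 ∧ TIn H (E 0) (c • E 1) := by
    by_cases hc : (E 1 + E 2) ⬝ᵥ f₁ = 0
    · have := (t1.conj hz1H hz1f (vecMul_eq_of_dot fun x => by
        rw [hz1, dotProduct_add, dotProduct_add, dotProduct_smul, dotProduct_smul, hc]
        simp [stdv_dot_stdv])).sub_left t1
      rw [add_sub_cancel_left] at this
      exact ⟨κ, hκ0, tIn_smul.mp (this.conj hJ (by rw [mulVec_smul, jord_mulVec_zero])
        (stdv_vecMul_jord 1))⟩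
    · have t3 := t0.comm t1 hf1
      have := (t3.conj hz1H hz1f (vecMul_eq_of_dot fun x => by
        simp only [hz1, dotProduct_add, dotProduct_smul, smul_dotProduct, h4, h6]
        simp)).sub_left t3
      rw [add_sub_cancel_left, tIn_smul, smul_smul] at this
      exact ⟨_, mul_ne_zero hκ0 hc, this⟩
  refine eq_top_of_addGen hn hJ hπ t0 ?_ hc t2 hzH ?_
  · rw [← hf, stdv_dot_jord, hfm, stdv_of_le (by omega), zero_dotProduct, add_zero]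
  · rw [hz, h1, h4, dotProduct_add, dotProduct_add, dotProduct_smul, dotProduct_smul, hfm,
      stdv_dot_stdv, if_neg (by omega)]
    simpa using hπ0

/-- A cyclic shift matrix with prescribed last column. -/
def cycP (b : Fin n → F) : Matrix (Fin n) (Fin n) F := -(shiftN F n)ᵀ + vecMulVec b (E (n - 1))

theorem cycP_mulVec (b : Fin n → F) (j : ℕ) :
    cycP b *ᵥ E j = -E (j + 1) + (E (n - 1) ⬝ᵥ E j) • b := by
  rw [cycP, add_mulVec, neg_mulVec, mulVec_transpose, stdv_vecMul_shiftN, vecMulVec_mulVec]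
  simp

theorem det_cycP {m : ℕ} (b : Fin (m + 1) → F) : (cycP b).det = b 0 := by
  rw [det_succ_row_zero, sum_eq_single (Fin.last m) (fun j _ hj => by
    have : j.val ≠ m := fun e => hj (Fin.ext e)
    simp [cycP, shiftN, vecMulVec_apply, stdv, this]) (by simp)]
  have : (cycP b).submatrix Fin.succ (Fin.last m).succAbove = -1 := by
    ext i j
    have : j.val ≠ m := j.2.ne
    simp [cycP, shiftN, vecMulVec_apply, stdv, this, one_apply, Fin.ext_iff]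
  rw [this, det_neg]
  simp [cycP, shiftN, vecMulVec_apply, stdv, mul_right_comm, ← mul_pow]

theorem ext_stdv {A B : Matrix (Fin n) (Fin n) F} (h : ∀ j < n, A *ᵥ E j = B *ᵥ E j) : A = B := by
  ext i j
  simpa [stdv_eq] using congrFun (h j j.2) i

theorem cycP_conj (hn : 3 ≤ n) {π : F} (hπ : π ≠ 0) {a f : Fin n → F} (ha0 : E 0 ⬝ᵥ a = 0)
    (ha1 : E 1 ⬝ᵥ a = 0) (hf : (J).1 *ᵥ f = π • E (n - 1) + a - (J).1 *ᵥ a) {y : SLn}
    (hy : ∀ x, y.1 *ᵥ x = x - (E 1 ⬝ᵥ x) • E 0 - (E 0 ⬝ᵥ x) • f) :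
    cycP (π⁻¹ • (E 0 - a)) * (J).1 = (J * y).1 * cycP (π⁻¹ • (E 0 - a)) := by
  refine ext_stdv fun j hj => ?_
  rw [← mulVec_mulVec, ← mulVec_mulVec, sl_mul_mulVec, hy]
  rcases j with _ | j
  · have h1 : ¬ n - 1 = 0 := by omega
    have h2 : 1 < n := by omega
    simp [jord_mulVec_zero, cycP_mulVec, stdv_dot_stdv, h1, h2, mulVec_add, mulVec_neg,
      jord_mulVec_succ (j := 0) h2]
  · rw [jord_mulVec_succ hj, mulVec_add, cycP_mulVec, cycP_mulVec _ j, stdv_dot_stdv _ j,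
      if_neg (by omega), stdv_dot_stdv]
    split_ifs with h
    · have h2 : 0 < n := by omega
      have h3 := h.1
      rw [stdv_of_le (j := j + 1 + 1) (by omega)]
      simp only [dotProduct_add, dotProduct_smul, dotProduct_sub, ha0, ha1, stdv_dot_stdv,
        mulVec_sub, mulVec_add, mulVec_smul, hf, jord_mulVec_zero, ← h3, neg_zero, dotProduct_zero,
        mulVec_zero, h2]
      simp only [if_true, and_true, one_ne_zero, false_and, if_false]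
      match_scalars <;> simp [hπ]
    · have h2 : j + 1 + 1 < n := by omega
      simp [stdv_dot_stdv, mulVec_neg, jord_mulVec_succ h2]
      abel

theorem exists_z {f : Fin n → F} (hn : 0 < n) (hf0 : E 0 ⬝ᵥ f = 0) (hf1 : E 1 ⬝ᵥ f = 0) :
    ∃ z : SLn, (∀ x, z.1 *ᵥ x = x + (E 1 ⬝ᵥ x) • E 0 + (E 0 ⬝ᵥ x + E 1 ⬝ᵥ x) • f) ∧
      ∀ x, (z⁻¹).1 *ᵥ x = x - (E 1 ⬝ᵥ x) • E 0 - (E 0 ⬝ᵥ x) • f := by
  have h1 : E 0 ⬝ᵥ E 0 = 1 := by simp [stdv_dot_stdv, hn]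
  have h4 : E 1 ⬝ᵥ E 0 = 0 := by simp [stdv_dot_stdv]
  have : ∀ x, (trv f _ hf0 * trv _ _ h4).1 *ᵥ x =
      x + (E 1 ⬝ᵥ x) • E 0 + (E 0 ⬝ᵥ x + E 1 ⬝ᵥ x) • f := fun x => by
    simp only [sl_mul_mulVec, trv_mulVec, dotProduct_add, dotProduct_smul, h1, smul_eq_mul, mul_one]
  refine ⟨_, this, fun x => sl_inv_mulVec _ ?_⟩
  simp only [this, dotProduct_sub, dotProduct_smul, *]
  module

theorem exists_pair [Finite F] (m : ℕ) {π k : F} (hπ : AddGen π) (hπ0 : π ≠ 0)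
    (hk : m = 0 → k = 0) (hκ0 : (-1) ^ m * π * (1 - k) ≠ 0) (hκ4 : (-1) ^ m * π * (1 - k) ≠ 4) :
    ∃ (v : Matrix.SpecialLinearGroup (Fin (m + 4)) F) (P : Matrix (Fin (m + 4)) (Fin (m + 4)) F),
      P.det = π⁻¹ ∧ P * (jord F (m + 4)).1 = v.1 * P ∧
        Subgroup.closure {jord F (m + 4), v} = ⊤ := by
  let f := π • (stdv F (m + 4) (m + 3) + k • stdv F (m + 4) (m + 2))
  let a := -π • ((1 + k) • stdv F (m + 4) (m + 3) + k • stdv F (m + 4) (m + 2))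
  have hf0 : stdv F (m + 4) 0 ⬝ᵥ f = 0 := by simp [f, stdv_dot_stdv]
  have hf1 : stdv F (m + 4) 1 ⬝ᵥ f = 0 := by simp [f, stdv_dot_stdv]
  obtain ⟨z, hz, hz'⟩ := exists_z (by omega) hf0 hf1
  refine ⟨jord F _ * z⁻¹, cycP (π⁻¹ • (stdv F _ 0 - a)), ?_, cycP_conj (by omega) hπ0 ?_ ?_ ?_ hz',
    eq_top_of_pair (by omega) hπ hπ0 hf0 hf1 ?_ ?_ ?_ hκ0 hκ4
      (Subgroup.subset_closure (by simp)) ?_ hz⟩
  · rw [det_cycP]; simp [a, stdv]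
  · simp [a, stdv_dot_stdv]
  · simp [a, stdv_dot_stdv]
  · simp only [f, a, mulVec_smul, mulVec_add, jord_mulVec_succ (show m + 2 + 1 < m + 4 by omega),
      jord_mulVec_succ (show m + 1 + 1 < m + 4 by omega), show m + 4 - 1 = m + 3 from rfl]
    module
  · by_cases hm : m = 0
    · simp [f, stdv_dot_stdv, hk hm, hm]
    · simp [f, stdv_dot_stdv, hm]
  · simp [f, stdv_dot_stdv]
  · simp only [f, mulVec_smul, mulVec_add, dotProduct_smul, dotProduct_add,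
      stdv_dot_jord_inv (show m + 2 + 1 < m + 4 by omega),
      stdv_dot_jord_inv (show m + 1 + 1 < m + 4 by omega), smul_eq_mul]
    ring
  · have := Subgroup.mul_mem _ (Subgroup.inv_mem _ (Subgroup.subset_closure
      (k := {jord F (m + 4), jord F _ * z⁻¹}) (Set.mem_insert_of_mem _ rfl)))
      (Subgroup.subset_closure (Set.mem_insert _ _))
    simpa using this

end Cfsg.Agent.GLn
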