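import Cfsg.Agent.GLn.RegGen

/-! Generation of `SL_n` by two conjugate regular unipotent elements: small cases. -/

open Matrix Finset

namespace Cfsg.Agent.GLn

/-- A checked word in two matrices. -/
def WChain {R : Type*} [CommRing R] {n : ℕ} (A B : Matrix (Fin n) (Fin n) R) :
    Matrix (Fin n) (Fin n) R → List (Bool × Matrix (Fin n) (Fin n) R) →
      Matrix (Fin n) (Fin n) R → Prop
  | M, [], T => M = T
  | M, (b, M') :: l, T => M * (if b then A else B) = M' ∧ WChain A B M' l T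

instance instDecidableWChain {R : Type*} [CommRing R] [DecidableEq R] {n : ℕ}
    (A B : Matrix (Fin n) (Fin n) R) : ∀ M l T, Decidable (WChain A B M l T)
  | M, [], T => inferInstanceAs (Decidable (M = T))
  | _, (_, M') :: l, T => @instDecidableAnd _ _ _ (instDecidableWChain A B M' l T)

theorem exists_conj_gen {F : Type*} [Field F] {R : Type*} [CommRing R] (φ : R →+* F) {m : ℕ}
    {A V : Matrix (Fin (m + 2)) (Fin (m + 2)) R} (G : Matrix (Fin (m + 2)) (Fin (m + 2)) R)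
    (hA : A = of fun i j => if j.val = i.val ∨ j.val = i.val + 1 then 1 else 0) (hG : G.det = 1)
    (hGV : G * A = V * G) (hV : φ (V (Fin.last _) 0) ≠ 0)
    (h : ∀ S : AddSubgroup F, (∀ a, (∃ l, WChain A V 1 l (1 + single 0 1 a)) → φ a ∈ S) → S = ⊤) :
    ∃ g, Subgroup.closure {jord F (m + 2), g * jord F (m + 2) * g⁻¹} = ⊤ := by
  let g : Matrix.SpecialLinearGroup (Fin (m + 2)) F :=
    ⟨φ.mapMatrix G, by rw [← RingHom.map_det, hG, map_one]⟩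
  have hJ : (jord F (m + 2)).1 = φ.mapMatrix A := by
    rw [hA, jord_coe]
    ext i j
    simp only [shiftN, Matrix.add_apply, one_apply, of_apply, RingHom.mapMatrix_apply, map_apply,
      Fin.ext_iff]
    split_ifs <;> first | omega | simp
  have hv : (g * jord F (m + 2) * g⁻¹).1 = φ.mapMatrix V := by
    have : (g * jord F (m + 2)).1 = φ.mapMatrix V * g.1 := by
      rw [Matrix.SpecialLinearGroup.coe_mul, hJ]
      exact (map_mul φ.mapMatrix _ _).symm.trans (hGV ▸ map_mul φ.mapMatrix _ _)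
    rw [Matrix.SpecialLinearGroup.coe_mul, this, mul_assoc, ← Matrix.SpecialLinearGroup.coe_mul,
      mul_inv_cancel, Matrix.SpecialLinearGroup.coe_one, mul_one]
  refine ⟨g, ?_⟩
  have h1 := Subgroup.subset_closure (k := {jord F (m + 2), g * jord F (m + 2) * g⁻¹})
    (Set.mem_insert _ _)
  have h2 := Subgroup.subset_closure (k := {jord F (m + 2), g * jord F (m + 2) * g⁻¹})
    (Set.mem_insert_of_mem _ rfl)
  generalize Subgroup.closure {jord F (m + 2), g * jord F (m + 2) * g⁻¹} = H at h1 h2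
  have key : ∀ l M T, (∃ x ∈ H, x.1 = φ.mapMatrix M) → WChain A V M l T →
      ∃ x ∈ H, x.1 = φ.mapMatrix T := fun l => by
    induction l with
    | nil => rintro M T hM rfl; exact hM
    | cons b l ih =>
      rintro M T ⟨x, hx, e⟩ ⟨h3, h4⟩
      refine ih _ _ ?_ h4
      rw [← h3]
      split_ifs
      · exact ⟨_, H.mul_mem hx h1, by rw [Matrix.SpecialLinearGroup.coe_mul, e, hJ, map_mul]⟩
      · exact ⟨_, H.mul_mem hx h2, by rw [Matrix.SpecialLinearGroup.coe_mul, e, hv, map_mul]⟩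
  have h10 : stdv F (m + 2) 1 ⬝ᵥ stdv F (m + 2) 0 = 0 := by simp [stdv_dot_stdv]
  have h3 := h (tCoeffs H _ _ h10) fun a ⟨l, hl⟩ => by
    obtain ⟨x, hx, e⟩ := key l _ _ ⟨1, H.one_mem, by simp⟩ hl
    refine ⟨by simp [h10], ?_⟩
    convert hx
    apply Subtype.ext
    rw [e, trv_coe, map_add, map_one]
    congr 1
    ext i j
    simp only [vecMulVec_apply, stdv, RingHom.mapMatrix_apply, map_apply, single_apply,
      Fin.ext_iff, Pi.smul_apply, smul_eq_mul, Fin.val_zero, Fin.val_one]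
    split_ifs <;> first | omega | simp
  refine eq_top_of_jord (by omega) h1 (fun c => (h3 ▸ AddSubgroup.mem_top c :
    c ∈ tCoeffs H _ _ h10)) h2 ?_
  rw [hv, show m + 2 - 1 = (Fin.last (m + 1)).val from rfl, stdv_dot,
    show (0 : ℕ) = (0 : Fin (m + 2)).val from rfl, stdv_eq]
  simpa using hV

theorem wchain_3_3_0 : ∃ l, WChain (R := ZMod 3) (n := 3) !![1, 1, 0; 0, 1, 1; 0, 0, 1]
    !![0, 2, 2; 2, 1, 1; 2, 0, 2] 1 l (1 + single 0 1 1) :=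
  ⟨[(false, !![0, 2, 2; 2, 1, 1; 2, 0, 2]),
      (false, !![2, 2, 0; 1, 2, 1; 1, 1, 2]),
      (true, !![2, 1, 2; 1, 0, 0; 1, 2, 0]),
      (true, !![2, 0, 0; 1, 1, 0; 1, 0, 2]),
      (false, !![0, 1, 1; 2, 0, 0; 1, 2, 0]),
      (true, !![0, 1, 2; 2, 2, 0; 1, 0, 2]),
      (false, !![0, 1, 2; 1, 0, 0; 1, 2, 0]),
      (true, !![0, 1, 0; 1, 1, 0; 1, 0, 2]),
      (true, !![0, 1, 1; 1, 2, 1; 1, 1, 2]),
      (false, !![1, 1, 0; 0, 1, 0; 0, 0, 1])], by decide +kernel⟩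


theorem wchain_3_4_0 : ∃ l, WChain (R := QuadraticAlgebra (ZMod 2) 1 1) (n := 3) !![1, 1, 0; 0, 1, 1; 0, 0, 1]
    !![⟨1, 1⟩, 1, ⟨0, 1⟩; ⟨0, 1⟩, ⟨1, 1⟩, 0; ⟨1, 1⟩, ⟨1, 1⟩, 1] 1 l (1 + single 0 1 1) :=
  ⟨[(false, !![⟨1, 1⟩, 1, ⟨0, 1⟩; ⟨0, 1⟩, ⟨1, 1⟩, 0; ⟨1, 1⟩, ⟨1, 1⟩, 1]),
      (false, !![1, 1, ⟨1, 1⟩; 0, 0, ⟨1, 1⟩; 0, ⟨0, 1⟩, 0]),
      (true, !![1, 0, ⟨0, 1⟩; 0, 0, ⟨1, 1⟩; 0, ⟨0, 1⟩, ⟨0, 1⟩]),
      (false, !![⟨0, 1⟩, 0, 0; ⟨0, 1⟩, ⟨0, 1⟩, ⟨1, 1⟩; ⟨0, 1⟩, 0, ⟨0, 1⟩]),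
      (false, !![1, ⟨0, 1⟩, ⟨1, 1⟩; 0, 1, 0; 0, ⟨1, 1⟩, 1]),
      (true, !![1, ⟨1, 1⟩, 1; 0, 1, 1; 0, ⟨1, 1⟩, ⟨0, 1⟩]),
      (true, !![1, ⟨0, 1⟩, ⟨0, 1⟩; 0, 1, 0; 0, ⟨1, 1⟩, 1]),
      (false, !![1, 1, 0; ⟨0, 1⟩, ⟨1, 1⟩, 0; ⟨0, 1⟩, 1, 1]),
      (false, !![1, ⟨0, 1⟩, ⟨0, 1⟩; 0, 0, ⟨1, 1⟩; 0, ⟨0, 1⟩, ⟨0, 1⟩]),
      (true, !![1, ⟨1, 1⟩, 0; 0, 0, ⟨1, 1⟩; 0, ⟨0, 1⟩, 0]),
      (false, !![⟨0, 1⟩, ⟨1, 1⟩, ⟨0, 1⟩; ⟨0, 1⟩, ⟨0, 1⟩, ⟨1, 1⟩; ⟨1, 1⟩, 1, 0]),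
      (false, !![1, 1, 1; 0, 1, 0; 0, 0, 1]),
      (true, !![1, 0, 0; 0, 1, 1; 0, 0, 1]),
      (true, !![1, 1, 0; 0, 1, 0; 0, 0, 1])], by decide +kernel⟩

theorem wchain_3_4_1 : ∃ l, WChain (R := QuadraticAlgebra (ZMod 2) 1 1) (n := 3) !![1, 1, 0; 0, 1, 1; 0, 0, 1]
    !![⟨1, 1⟩, 1, ⟨0, 1⟩; ⟨0, 1⟩, ⟨1, 1⟩, 0; ⟨1, 1⟩, ⟨1, 1⟩, 1] 1 l (1 + single 0 1 ⟨0, 1⟩) :=
  ⟨[(false, !![⟨1, 1⟩, 1, ⟨0, 1⟩; ⟨0, 1⟩, ⟨1, 1⟩, 0; ⟨1, 1⟩, ⟨1, 1⟩, 1]),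
      (false, !![1, 1, ⟨1, 1⟩; 0, 0, ⟨1, 1⟩; 0, ⟨0, 1⟩, 0]),
      (true, !![1, 0, ⟨0, 1⟩; 0, 0, ⟨1, 1⟩; 0, ⟨0, 1⟩, ⟨0, 1⟩]),
      (true, !![1, 1, ⟨0, 1⟩; 0, 0, ⟨1, 1⟩; 0, ⟨0, 1⟩, 0]),
      (false, !![0, ⟨1, 1⟩, 0; ⟨0, 1⟩, ⟨0, 1⟩, ⟨1, 1⟩; ⟨1, 1⟩, 1, 0]),
      (false, !![1, ⟨0, 1⟩, 0; 0, 1, 0; 0, 0, 1])], by decide +kernel⟩


theorem wchain_3_7_0 : ∃ l, WChain (R := ZMod 7) (n := 3) !![1, 1, 0; 0, 1, 1; 0, 0, 1]
    !![1, 0, 0; 6, 1, 0; 2, 6, 1] 1 l (1 + single 0 1 1) :=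
  ⟨[(false, !![1, 0, 0; 6, 1, 0; 2, 6, 1]),
      (true, !![1, 1, 0; 6, 0, 1; 2, 1, 0]),
      (true, !![1, 2, 1; 6, 6, 1; 2, 3, 1]),
      (false, !![1, 1, 1; 2, 5, 1; 1, 2, 1]),
      (true, !![1, 2, 2; 2, 0, 6; 1, 3, 3]),
      (false, !![3, 0, 2; 0, 1, 6; 4, 0, 3]),
      (true, !![3, 3, 2; 0, 1, 0; 4, 4, 3]),
      (false, !![4, 1, 2; 6, 1, 0; 6, 1, 3]),
      (true, !![4, 5, 3; 6, 0, 1; 6, 0, 4]),
      (false, !![5, 2, 3; 1, 6, 1; 0, 3, 4]),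
      (true, !![5, 0, 5; 1, 0, 0; 0, 3, 0]),
      (true, !![5, 5, 5; 1, 1, 0; 0, 3, 3]),
      (false, !![3, 0, 5; 0, 1, 0; 3, 0, 3]),
      (false, !![6, 2, 5; 6, 1, 0; 2, 4, 3]),
      (true, !![6, 1, 0; 6, 0, 1; 2, 6, 0]),
      (true, !![6, 0, 1; 6, 6, 1; 2, 1, 6]),
      (false, !![1, 6, 1; 2, 5, 1; 6, 2, 6]),
      (true, !![1, 0, 0; 2, 0, 6; 6, 1, 1]),
      (false, !![1, 0, 0; 0, 1, 6; 0, 0, 1]),
      (true, !![1, 1, 0; 0, 1, 0; 0, 0, 1])], by decide +kernel⟩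


theorem wchain_4_3_0 : ∃ l, WChain (R := ZMod 3) (n := 4) !![1, 1, 0, 0; 0, 1, 1, 0; 0, 0, 1, 1; 0, 0, 0, 1]
    !![1, 2, 0, 1; 1, 1, 1, 0; 2, 0, 1, 0; 1, 0, 1, 1] 1 l (1 + single 0 1 1) :=
  ⟨[(false, !![1, 2, 0, 1; 1, 1, 1, 0; 2, 0, 1, 0; 1, 0, 1, 1]),
      (false, !![1, 1, 0, 2; 1, 0, 2, 1; 1, 1, 1, 2; 1, 2, 2, 2]),
      (false, !![1, 0, 0, 0; 0, 2, 0, 2; 0, 0, 1, 0; 0, 1, 0, 0]),
      (false, !![1, 2, 0, 1; 1, 2, 1, 2; 2, 0, 1, 0; 1, 1, 1, 0]),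
      (false, !![1, 1, 0, 2; 1, 1, 2, 0; 1, 1, 1, 2; 1, 0, 2, 1]),
      (false, !![1, 0, 0, 0; 0, 0, 0, 1; 0, 0, 1, 0; 0, 2, 0, 2]),
      (true, !![1, 1, 0, 0; 0, 0, 0, 1; 0, 0, 1, 1; 0, 2, 2, 2]),
      (true, !![1, 2, 1, 0; 0, 0, 0, 1; 0, 0, 1, 2; 0, 2, 1, 1]),
      (true, !![1, 0, 0, 1; 0, 0, 0, 1; 0, 0, 1, 0; 0, 2, 0, 2]),
      (false, !![2, 2, 1, 2; 1, 0, 1, 1; 2, 0, 1, 0; 1, 2, 1, 2]),
      (false, !![2, 0, 2, 1; 1, 2, 2, 2; 1, 1, 1, 2; 1, 1, 2, 0]),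
      (false, !![1, 1, 0, 0; 0, 1, 0, 0; 0, 0, 1, 0; 0, 0, 0, 1])], by decide +kernel⟩



theorem addSubgroup_eq_top_of_prime {F : Type*} [Field F] [Finite F] (h : (Nat.card F).Prime)
    {S : AddSubgroup F} {c : F} (hc : c ∈ S) (hc0 : c ≠ 0) : S = ⊤ := by
  have : Fact (Nat.card F).Prime := ⟨h⟩
  exact (S.eq_bot_or_eq_top_of_prime_card).resolve_left fun e => hc0 (by simpa [e] using hc)

theorem charP_of_card {F : Type*} [Field F] [Fintype F] {p k : ℕ} (hp : p.Prime)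
    (h : Fintype.card F = p ^ k) : CharP F p :=
  have : Fact p.Prime := ⟨hp⟩
  charP_of_card_eq_prime_pow h

instance instFactPrimeSevenGLn : Fact (Nat.Prime 7) := ⟨Nat.prime_seven⟩

variable {F : Type*} [Field F] [Fintype F]

theorem conj_gen_3_3 (h : Fintype.card F = 3) :
    ∃ g, Subgroup.closure {jord F 3, g * jord F 3 * g⁻¹} = ⊤ :=
  have := charP_of_card (k := 1) Nat.prime_three h
  exists_conj_gen (ZMod.castHom dvd_rfl F) (m := 1) !![2, 0, 2; 2, 2, 0; 2, 2, 1] (by decide +kernel)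
    (by decide +kernel) (by decide +kernel) ((map_ne_zero _).mpr (by decide +kernel))
    fun S hS => addSubgroup_eq_top_of_prime (by rw [Nat.card_eq_fintype_card, h]; decide)
      (hS 1 wchain_3_3_0) (by simp)

theorem conj_gen_3_7 (h : Fintype.card F = 7) :
    ∃ g, Subgroup.closure {jord F 3, g * jord F 3 * g⁻¹} = ⊤ :=
  have := charP_of_card (k := 1) Nat.prime_seven h
  exists_conj_gen (ZMod.castHom dvd_rfl F) (m := 1) !![0, 0, 2; 0, 5, 1; 2, 3, 2] (by decide +kernel)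
    (by decide +kernel) (by decide +kernel) ((map_ne_zero _).mpr (by decide +kernel))
    fun S hS => addSubgroup_eq_top_of_prime (by rw [Nat.card_eq_fintype_card, h]; decide)
      (hS 1 wchain_3_7_0) (by simp)

theorem conj_gen_4_3 (h : Fintype.card F = 3) :
    ∃ g, Subgroup.closure {jord F 4, g * jord F 4 * g⁻¹} = ⊤ :=
  have := charP_of_card (k := 1) Nat.prime_three h
  exists_conj_gen (ZMod.castHom dvd_rfl F) (m := 2) !![0, 0, 1, 0; 2, 1, 0, 0; 0, 2, 0, 0; 2, 1, 0, 1]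
    (by decide +kernel) (by decide +kernel) (by decide +kernel)
    ((map_ne_zero _).mpr (by decide +kernel))
    fun S hS => addSubgroup_eq_top_of_prime (by rw [Nat.card_eq_fintype_card, h]; decide)
      (hS 1 wchain_4_3_0) (by simp)

theorem conj_gen_3_4 (h : Fintype.card F = 4) :
    ∃ g, Subgroup.closure {jord F 3, g * jord F 3 * g⁻¹} = ⊤ := by
  classical
  have := charP_of_card (k := 2) Nat.prime_two h
  let := ZMod.algebra F 2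
  obtain ⟨w, hw0, hw1⟩ : ∃ w : F, w ≠ 0 ∧ w ≠ 1 := by
    by_contra! hh
    have : (univ : Finset F) ⊆ {0, 1} := fun w _ => by
      by_cases h0 : w = 0 <;> simp [h0, hh]
    have := (card_le_card this).trans card_le_two
    rw [card_univ] at this; omega
  have h2 : (2 : F) = 0 := CharTwo.two_eq_zero
  have hw : w * w = (1 : ZMod 2) • (1 : F) + (1 : ZMod 2) • w := by
    have h3 := FiniteField.pow_card_sub_one_eq_one w hw0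
    rw [h] at h3
    rw [one_smul, one_smul]
    apply mul_left_cancel₀ (sub_ne_zero.mpr hw1)
    linear_combination h3 - (w ^ 2 - 1) * h2
  refine exists_conj_gen (QuadraticAlgebra.lift ⟨w, hw⟩).toRingHom (m := 1)
    (A := !![1, 1, 0; 0, 1, 1; 0, 0, 1])
    (V := !![⟨1, 1⟩, 1, ⟨0, 1⟩; ⟨0, 1⟩, ⟨1, 1⟩, 0; ⟨1, 1⟩, ⟨1, 1⟩, 1])
    !![1, 0, 0; 1, ⟨1, 1⟩, ⟨0, 1⟩; ⟨0, 1⟩, 1, 1] (by decide +kernel)
    (by decide +kernel) (by decide +kernel) ?_ fun S hS => ?_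
  · change (1 : ZMod 2) • (1 : F) + (1 : ZMod 2) • w ≠ 0
    rw [← hw]; exact mul_ne_zero hw0 hw0
  · have h1 : (1 : F) ∈ S := by simpa only [map_one] using hS 1 wchain_3_4_0
    have h3 : (0 : ZMod 2) • (1 : F) + (1 : ZMod 2) • w ∈ S := hS _ wchain_3_4_1
    rw [zero_smul, zero_add, one_smul] at h3
    rw [one_smul, one_smul] at hw
    refine eq_top_iff.mpr fun x _ => ?_
    have h4 := FiniteField.pow_card x
    rw [h] at h4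
    have : x * (x - 1) * (x - w) * (x - (1 + w)) = 0 := by
      linear_combination h4 + x * (x - 1) * hw + x * (x - 1) * (w - x - w * x) * h2
    simp only [mul_eq_zero, sub_eq_zero] at this
    rcases this with ((rfl | rfl) | rfl) | rfl
    exacts [S.zero_mem, h1, h3, S.add_mem h1 h3]

end Cfsg.Agent.GLn
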