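import Cfsg.Agent.GLn.Frames
import Cfsg.Agent.GLn.Blocks

/-! Generation of `SL_n` by regular unipotent elements: tools. -/

open Matrix Finset Polynomial

namespace Cfsg.Agent.GLn

variable {F : Type*} [Field F]

section TIn

variable {ι : Type*} [Fintype ι] [DecidableEq ι] {H : Subgroup (Matrix.SpecialLinearGroup ι F)}

/-- The transvection `1 + a w` lies in `H`. -/
def TIn (H : Subgroup (Matrix.SpecialLinearGroup ι F)) (a w : ι → F) : Prop :=
  ∃ h : w ⬝ᵥ a = 0, trv a w h ∈ H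

theorem TIn.conj {a w a' w' : ι → F} (h : TIn H a w) {g : Matrix.SpecialLinearGroup ι F}
    (hg : g ∈ H) (ha : g.1 *ᵥ a = a') (hw : w' ᵥ* g.1 = w) : TIn H a' w' := by
  obtain ⟨h, hm⟩ := h
  refine ⟨by rw [← ha, dotProduct_mulVec, hw, h], ?_⟩
  have := H.mul_mem (H.mul_mem hg hm) (H.inv_mem hg)
  rw [conj_trv] at this
  convert this using 1
  apply trv_congr
  rw [ha, ← hw, vecMul_vecMul, ← Matrix.SpecialLinearGroup.coe_mul, mul_inv_cancel,
    Matrix.SpecialLinearGroup.coe_one, vecMul_one]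

theorem TIn.add_right {a w w' : ι → F} (h : TIn H a w) (h' : TIn H a w') : TIn H a (w + w') := by
  obtain ⟨h, hm⟩ := h
  obtain ⟨h', hm'⟩ := h'
  exact ⟨by rw [add_dotProduct, h, h', add_zero], trv_add_right h h' _ ▸ H.mul_mem hm hm'⟩

theorem TIn.neg_right {a w : ι → F} (h : TIn H a w) : TIn H a (-w) := by
  obtain ⟨h, hm⟩ := h
  exact ⟨_, trv_inv h ▸ H.inv_mem hm⟩

theorem TIn.sub_right {a w w' : ι → F} (h : TIn H a w) (h' : TIn H a w') : TIn H a (w - w') := by
  rw [sub_eq_add_neg]; exact h.add_right h'.neg_right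

theorem tIn_smul {a w : ι → F} {c : F} : TIn H (c • a) w ↔ TIn H a (c • w) := by
  have e : w ⬝ᵥ c • a = (c • w) ⬝ᵥ a := by rw [dotProduct_smul, smul_dotProduct]
  constructor
  · rintro ⟨h, hm⟩
    exact ⟨e ▸ h, trv_congr h (e ▸ h) (by rw [smul_vecMulVec, vecMulVec_smul]) ▸ hm⟩
  · rintro ⟨h, hm⟩
    exact ⟨e ▸ h, trv_congr h (e ▸ h) (by rw [smul_vecMulVec, vecMulVec_smul]) ▸ hm⟩

theorem TIn.sub_left {a b w : ι → F} (h : TIn H a w) (h' : TIn H b w) : TIn H (a - b) w := by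
  have h2 : TIn H (-b) w := by
    rw [← neg_one_smul F, tIn_smul, neg_one_smul]; exact h'.neg_right
  obtain ⟨h, hm⟩ := h
  obtain ⟨h', hm'⟩ := h2
  rw [sub_eq_add_neg]
  exact ⟨by rw [dotProduct_add, h, h', add_zero], trv_add_left h h' _ ▸ H.mul_mem hm hm'⟩

/-- If `α(b) = 0` then the commutator of `1 + a α` and `1 + b β` is `1 + β(a) b α`. -/
theorem TIn.comm {a α b β : ι → F} (h : TIn H a α) (h' : TIn H b β) (e : α ⬝ᵥ b = 0) :
    TIn H b ((β ⬝ᵥ a) • α) := by
  obtain ⟨h', hm'⟩ := h'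
  have := (h.conj hm' (trv_mulVec _ _ _ _) (w' := α)
    (by rw [vecMul_trv, e, zero_smul, add_zero])).sub_left h
  rwa [add_sub_cancel_left, tIn_smul] at this

/-- The coefficients `c` with `1 + c a w ∈ H`. -/
def tCoeffs (H : Subgroup (Matrix.SpecialLinearGroup ι F)) (a w : ι → F) (h : w ⬝ᵥ a = 0) :
    AddSubgroup F where
  carrier := {c | TIn H a (c • w)}
  zero_mem' := ⟨by simp, by simp [trv_zero_right, H.one_mem]⟩
  add_mem' := fun {a b} ha hb => by
    change TIn _ _ _; rw [add_smul]; exact TIn.add_right ha hb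
  neg_mem' := fun {a} ha => by
    change TIn _ _ _; rw [neg_smul]; exact TIn.neg_right ha

/-- The vectors `a` such that all transvections with centre `a` lie in `H`. -/
def qset (H : Subgroup (Matrix.SpecialLinearGroup ι F)) : Submodule F (ι → F) where
  carrier := {a | ∀ w, w ⬝ᵥ a = 0 → TIn H a w}
  zero_mem' := fun w h => ⟨h, by rw [trv_zero_left]; exact H.one_mem⟩
  smul_mem' := fun c a ha w h => tIn_smul.mpr (ha _ (by rwa [smul_dotProduct, ← dotProduct_smul]))
  add_mem' := fun {a b} ha hb => by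
    have hs : ∀ c : F, ∀ w, w ⬝ᵥ c • b = 0 → TIn H (c • b) w := fun c w h =>
      tIn_smul.mpr (hb _ (by rwa [smul_dotProduct, ← dotProduct_smul]))
    by_cases h : ∀ i j, a i * b j = a j * b i
    · by_cases hb0 : b = 0
      · simpa [hb0] using ha
      obtain ⟨j, hj⟩ := Function.ne_iff.mp hb0
      have : a + b = (a j / b j + 1) • b := by
        ext i; simp only [Pi.add_apply, Pi.smul_apply, smul_eq_mul]
        have hj' : b j ≠ 0 := hj
        field_simp; linear_combination h i j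
      rw [this]; exact hs _
    push Not at h
    obtain ⟨i, j, h⟩ := h
    have h := sub_ne_zero.mpr h
    obtain ⟨h1, h2⟩ := hb (Pi.single i (b j / (a i * b j - a j * b i)) -
      Pi.single j (b i / (a i * b j - a j * b i))) (by simp [sub_dotProduct]; ring)
    intro w hw
    refine (ha (w ᵥ* (trv _ _ h1).1) ?_).conj h2 ?_ rfl
    all_goals
      have : (trv _ _ h1).1 *ᵥ a = a + b := by
        rw [trv_mulVec]
        simp only [sub_dotProduct, single_dotProduct]
        rw [show b j / (a i * b j - a j * b i) * a i - b i / (a i * b j - a j * b i) * a j = 1 by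
          rw [div_mul_eq_mul_div, div_mul_eq_mul_div, ← sub_div, div_eq_one_iff_eq h]; ring,
          one_smul]
    · rw [← dotProduct_mulVec, this, hw]
    · exact this

theorem mulVec_mem_qset {g : Matrix.SpecialLinearGroup ι F} (hg : g ∈ H) {a : ι → F}
    (ha : a ∈ qset H) : g.1 *ᵥ a ∈ qset H := fun w hw =>
  (ha (w ᵥ* g.1) (by rw [← dotProduct_mulVec, hw])).conj hg rfl rfl

theorem eq_top_of_qset [Nontrivial ι] (h : qset H = ⊤) : H = ⊤ := by
  refine eq_top_of_tv_mem fun i j hij a => ?_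
  rw [tv_eq_trv]
  exact ((h ▸ Submodule.mem_top : Pi.single i (1 : F) ∈ qset H) _ (by simp [hij])).2

theorem mem_of_commute_of_squarefree [Finite F] {s t : Matrix.SpecialLinearGroup ι F}
    (hc : Commute s t) {P : F[X]} (hP : Squarefree P) (hs : aeval s.1 P = 0)
    (ht : t ^ ringChar F = 1) (h : s * t ∈ H) : t ∈ H := by
  have hp : Fact (ringChar F).Prime := ⟨CharP.char_is_prime F _⟩
  have h0 : orderOf s ≠ 0 := (orderOf_pos s).ne'
  obtain ⟨a, m, hm, e⟩ := Nat.exists_eq_pow_mul_and_not_dvd h0 (ringChar F) hp.out.ne_one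
  have h1 : aeval s.1 ((X ^ m - 1 : F[X]) ^ ringChar F ^ a) = 0 := by
    rw [sub_pow_char_pow, ← pow_mul, mul_comm, ← e, one_pow, map_sub, map_pow, aeval_X, map_one,
      ← Matrix.SpecialLinearGroup.coe_pow, pow_orderOf_eq_one]
    simp
  have h2 : minpoly F s.1 ∣ X ^ m - 1 :=
    (hP.squarefree_of_dvd (minpoly.dvd _ _ hs)).isRadical _ _ (minpoly.dvd _ _ h1)
  have h3 : s ^ m = 1 := Subtype.ext (by
    have := aeval_eq_zero_of_dvd_aeval_eq_zero h2 (minpoly.aeval F s.1)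
    simpa [sub_eq_zero] using this)
  have h4 := H.pow_mem h m
  rw [hc.mul_pow, h3, one_mul] at h4
  obtain ⟨k, hk⟩ := exists_pow_eq_self_of_coprime (x := t) (n := m)
    (Nat.Coprime.coprime_dvd_right (orderOf_dvd_of_pow_eq_one ht)
      ((Nat.Prime.coprime_iff_not_dvd hp.out).mpr hm).symm)
  exact hk ▸ H.pow_mem h4 k

theorem trv_pow {v w : ι → F} (h : w ⬝ᵥ v = 0) (k : ℕ) :
    trv v w h ^ k = trv v ((k : F) • w) (by rw [smul_dotProduct, h, smul_zero]) := by
  induction k with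
  | zero => simp [trv_zero_right]
  | succ k ih =>
    rw [pow_succ, ih, ← trv_add_right _ _ (by simp [add_dotProduct, h])]
    exact trv_congr _ _ (by rw [Nat.cast_succ, add_smul, one_smul])

theorem isCoprime_of_eq_C {x y : F[X]} {c : F} (hc : c ≠ 0) (a b : F[X])
    (h : a * x + b * y = C c) : IsCoprime x y :=
  ⟨C c⁻¹ * a, C c⁻¹ * b, by
    rw [mul_assoc, mul_assoc, ← mul_add, h, ← C_mul, inv_mul_cancel₀ hc, C_1]⟩

/-- The key trick producing a transvection. -/
theorem tIn_of_pair [Finite F] {e f f₁ ξ α α₁ : ι → F} {κ : F} (hκ : κ ≠ 0) (hκ4 : κ ≠ 4)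
    (h1 : ξ ⬝ᵥ e = 1) (h2 : ξ ⬝ᵥ f = 0) (h3 : ξ ⬝ᵥ f₁ = 0) (h4 : α ⬝ᵥ e = 0) (h5 : α ⬝ᵥ f = 0)
    (h6 : α ⬝ᵥ f₁ = 0) (h7 : α₁ ⬝ᵥ e = 0) (h8 : α₁ ⬝ᵥ f = κ) (h9 : α₁ ⬝ᵥ f₁ = 0)
    {g : Matrix.SpecialLinearGroup ι F} (hg : g ∈ H)
    (hx : ∀ x, g.1 *ᵥ x = x + (α ⬝ᵥ x - α₁ ⬝ᵥ x) • e + (ξ ⬝ᵥ x + α ⬝ᵥ x - α₁ ⬝ᵥ x) • f +
      (α₁ ⬝ᵥ x - ξ ⬝ᵥ x) • f₁) : TIn H f₁ α := by
  refine ⟨h6, mem_of_commute_of_squarefree (s := g * (trv f₁ α h6)⁻¹) ?_
    (P := (X - 1) * (X ^ 2 - C (2 - κ) * X + 1)) ?_ ?_ ?_ (by simpa using hg)⟩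
  · refine Commute.mul_left ?_ (Commute.refl _).inv_left
    apply Subtype.ext
    rw [Matrix.ext_iff_mulVec]
    intro x
    simp only [sl_mul_mulVec, trv_mulVec, hx, dotProduct_add, dotProduct_smul, *]
    module
  · refine Separable.squarefree (Separable.mul (separable_X_sub_C (x := 1)) ?_ ?_)
    · refine isCoprime_of_eq_C (mul_ne_zero (sub_ne_zero.mpr hκ4.symm) hκ) 4
        (-(2 * X - C (2 - κ))) ?_
      simp only [map_sub, map_ofNat, map_mul, derivative_add, derivative_sub, derivative_X_pow,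
        derivative_mul, derivative_C, derivative_X, derivative_one, derivative_ofNat,
        Nat.cast_ofNat]
      ring
    · refine isCoprime_of_eq_C hκ (-(X + C (κ - 1))) 1 ?_
      simp only [map_sub, map_ofNat, map_one]
      ring
  · rw [Matrix.ext_iff_mulVec]
    intro x
    simp only [map_mul, map_sub, map_add, map_pow, aeval_X, map_one, aeval_C, ← mulVec_mulVec, sq,
      sub_mulVec, add_mulVec, one_mulVec, trv_inv, sl_mul_mulVec, trv_mulVec, hx, dotProduct_add,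
      dotProduct_smul, neg_dotProduct, dotProduct_sub, Algebra.algebraMap_eq_smul_one, smul_mulVec,
      zero_mulVec, *]
    module
  · rw [trv_pow]
    simp [trv_zero_right]

end TIn

section Jordan

variable {n : ℕ}

variable (F n) in
/-- The `j`-th standard vector (zero if `j ≥ n`). -/
def stdv (j : ℕ) : Fin n → F := fun i => if i.val = j then 1 else 0

local notation "E" => stdv F n

theorem stdv_eq (j : Fin n) : E j = Pi.single j 1 := by
  ext i; simp [stdv, Pi.single_apply, Fin.ext_iff]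

theorem stdv_dot (j : Fin n) (x : Fin n → F) : E j ⬝ᵥ x = x j := by simp [stdv_eq]

theorem stdv_of_le {j : ℕ} (h : n ≤ j) : E j = 0 := by
  ext i; have := i.2; simp [stdv]; omega

theorem stdv_dot_stdv (i j : ℕ) : E i ⬝ᵥ E j = if i = j ∧ i < n then 1 else 0 := by
  by_cases h : i < n
  · rw [show i = (⟨i, h⟩ : Fin n) from rfl, stdv_dot]; simp [stdv, h]
  · simp [stdv_of_le (not_lt.mp h), h]

theorem stdv_vecMul_shiftN (j : ℕ) : E j ᵥ* shiftN F n = E (j + 1) := by
  by_cases h : j < n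
  · rw [show j = (⟨j, h⟩ : Fin n) from rfl, stdv_eq, single_one_vecMul]
    ext i; simp [shiftN, stdv]
  · rw [stdv_of_le (not_lt.mp h), stdv_of_le (by omega), zero_vecMul]

theorem shiftN_mulVec_succ {j : ℕ} (h : j + 1 < n) : shiftN F n *ᵥ E (j + 1) = E j := by
  rw [show j + 1 = (⟨j + 1, h⟩ : Fin n) from rfl, stdv_eq, mulVec_single_one]
  ext i; simp [shiftN, stdv, eq_comm]

theorem shiftN_mulVec_zero : shiftN F n *ᵥ E 0 = 0 := by
  ext i
  rw [← stdv_dot i (_ *ᵥ _), dotProduct_mulVec, stdv_vecMul_shiftN, stdv_dot_stdv]; simp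

variable (F n) in
/-- The Jordan block. -/
def jord : Matrix.SpecialLinearGroup (Fin n) F :=
  ⟨1 + shiftN F n, det_one_add_of_isNilpotent (isNilpotent_shiftN n)⟩

local notation "J" => jord F n

theorem jord_coe : (J).1 = 1 + shiftN F n := rfl

theorem stdv_vecMul_jord (j : ℕ) : E j ᵥ* (J).1 = E j + E (j + 1) := by
  rw [jord_coe, vecMul_add, vecMul_one, stdv_vecMul_shiftN]

theorem jord_mulVec_succ {j : ℕ} (h : j + 1 < n) : (J).1 *ᵥ E (j + 1) = E (j + 1) + E j := by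
  rw [jord_coe, add_mulVec, one_mulVec, shiftN_mulVec_succ h]

theorem jord_mulVec_zero : (J).1 *ᵥ E 0 = E 0 := by
  rw [jord_coe, add_mulVec, one_mulVec, shiftN_mulVec_zero, add_zero]

theorem regular_of_conj {v : Matrix.SpecialLinearGroup (Fin n) F} {P : Matrix (Fin n) (Fin n) F}
    (hn : 0 < n) (hP : P.det ≠ 0) (h : P * (J).1 = v.1 * P) :
    IsNilpotent (v.1 - 1) ∧ (v.1 - 1) ^ (n - 1) ≠ 0 := by
  have h1 : ∀ k, P * shiftN F n ^ k = (v.1 - 1) ^ k * P := fun k =>
    SemiconjBy.pow_right (by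
      rw [SemiconjBy, sub_mul, ← h, jord_coe, mul_add, mul_one, one_mul, add_sub_cancel_left]) k
  have hu := (Matrix.isUnit_iff_isUnit_det P).mpr (isUnit_iff_ne_zero.mpr hP)
  refine ⟨⟨n, hu.mul_left_eq_zero.mp ?_⟩, fun e => ?_⟩
  · rw [← h1, (shiftN_pow_eq_zero_iff n n).mpr le_rfl, mul_zero]
  · have := h1 (n - 1)
    rw [e, zero_mul, hu.mul_right_eq_zero, shiftN_pow_eq_zero_iff] at this
    omega

variable {H : Subgroup (Matrix.SpecialLinearGroup (Fin n) F)}

theorem tIn_stdv (hJ : J ∈ H) {c : F} {i : ℕ} (h : TIn H (E 0) (c • E i)) {j : ℕ} (hj : i ≤ j) :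
    TIn H (E 0) (c • E j) := by
  induction j, hj using Nat.le_induction with
  | base => exact h
  | succ j _ ih =>
    have := (ih.conj (H.inv_mem hJ) (sl_inv_mulVec _ jord_mulVec_zero)
      (w' := (c • E j) ᵥ* (J).1) (by
        rw [vecMul_vecMul, ← Matrix.SpecialLinearGroup.coe_mul, mul_inv_cancel,
          Matrix.SpecialLinearGroup.coe_one, vecMul_one])).sub_right ih
    rwa [smul_vecMul, stdv_vecMul_jord, smul_add, add_sub_cancel_left] at this

theorem eq_top_of_shift_invariant {S : Submodule F (Fin n → F)}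
    (hS : ∀ x ∈ S, shiftN F n *ᵥ x ∈ S) {f : Fin n → F} (hf : f ∈ S) (hf0 : E (n - 1) ⬝ᵥ f ≠ 0) :
    S = ⊤ := by
  have h1 : ∀ k, shiftN F n ^ k *ᵥ f ∈ S := fun k => by
    induction k with
    | zero => simpa using hf
    | succ k ih => rw [pow_succ', ← mulVec_mulVec]; exact hS _ ih
  have h2 : ∀ k j, E j ⬝ᵥ shiftN F n ^ k *ᵥ f = E (j + k) ⬝ᵥ f := fun k => by
    induction k with
    | zero => simp
    | succ k ih =>
      intro j
      rw [pow_succ', ← mulVec_mulVec, dotProduct_mulVec, stdv_vecMul_shiftN, ih, add_assoc,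
        add_comm 1 k]
  have h3 : ∀ k, k ≤ n → ∀ x : Fin n → F, (∀ i : Fin n, k ≤ i.val → x i = 0) → x ∈ S := by
    intro k
    induction k with
    | zero => intro _ x hx; rw [show x = 0 from funext fun i => hx i (Nat.zero_le _)]; exact S.zero_mem
    | succ k ih =>
      intro hk x hx
      have := S.add_mem (ih (by omega) (x - (x ⟨k, hk⟩ / (E (n - 1) ⬝ᵥ f)) •
        shiftN F n ^ (n - 1 - k) *ᵥ f) fun i hi => ?_) (S.smul_mem (x ⟨k, hk⟩ / (E (n - 1) ⬝ᵥ f))
          (h1 (n - 1 - k)))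
      · rwa [sub_add_cancel] at this
      rw [Pi.sub_apply, Pi.smul_apply, ← stdv_dot i (_ *ᵥ _), h2]
      rcases hi.eq_or_lt with e | e
      · rw [show i.val + (n - 1 - k) = n - 1 by omega, show i = ⟨k, hk⟩ from Fin.ext e.symm,
          smul_eq_mul, div_mul_cancel₀ _ hf0, sub_self]
      · rw [hx i e, stdv_of_le (j := i.val + (n - 1 - k)) (by omega)]; simp
  exact eq_top_iff.mpr fun x _ => h3 n le_rfl x fun i hi => absurd i.2 (by omega)

theorem eq_top_of_jord (hn : 2 ≤ n) (hJ : J ∈ H) (h : ∀ c : F, TIn H (E 0) (c • E 1))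
    {g : Matrix.SpecialLinearGroup (Fin n) F} (hg : g ∈ H) (hg0 : E (n - 1) ⬝ᵥ g.1 *ᵥ E 0 ≠ 0) :
    H = ⊤ := by
  have : Nontrivial (Fin n) := Fin.nontrivial_iff_two_le.mpr hn
  have h0 : E 0 ∈ qset H := fun w hw => by
    have : w = ∑ j : Fin n, w j • E j := by
      ext i; simp [stdv_eq, Pi.single_apply]
    rw [this]
    refine Finset.sum_induction _ (TIn H (E 0)) (fun a b => TIn.add_right)
      ⟨by simp, by rw [trv_zero_right]; exact H.one_mem⟩ fun j _ => ?_
    by_cases hj : j.val = 0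
    · rw [dotProduct_comm, ← hj, stdv_dot] at hw
      rw [hw, zero_smul]
      exact ⟨by simp, by rw [trv_zero_right]; exact H.one_mem⟩
    · exact tIn_stdv hJ (h _) (by omega)
  refine eq_top_of_qset (eq_top_of_shift_invariant (fun x hx => ?_) (mulVec_mem_qset hg h0) hg0)
  have := (qset H).sub_mem (mulVec_mem_qset hJ hx) hx
  rwa [jord_coe, add_mulVec, one_mulVec, add_sub_cancel_left] at this

/-- `π` acts irreducibly on the additive group of `F`. -/
def AddGen (π : F) : Prop := ∀ A : AddSubgroup F, (∀ x ∈ A, π * x ∈ A) → ∀ c ∈ A, c ≠ 0 → A = ⊤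

theorem eq_top_of_addGen (hn : 2 ≤ n) (hJ : J ∈ H) {π : F} (hπ : AddGen π) {a : Fin n → F}
    (ha : TIn H a (E 1)) (ha' : E (n - 1) ⬝ᵥ a = π) {c : F} (hc : c ≠ 0)
    (h : TIn H (E 0) (c • E 1)) {g : Matrix.SpecialLinearGroup (Fin n) F} (hg : g ∈ H)
    (hg0 : E (n - 1) ⬝ᵥ g.1 *ᵥ E 0 ≠ 0) : H = ⊤ := by
  have h10 : E 1 ⬝ᵥ E 0 = 0 := by simp [stdv_dot_stdv]
  have := hπ (tCoeffs H (E 0) (E 1) h10) (fun x hx => by
    have := ha.comm (tIn_stdv hJ hx (j := n - 1) (by omega)) h10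
    rwa [smul_dotProduct, ha', smul_eq_mul, mul_comm] at this) c h hc
  exact eq_top_of_jord hn hJ (fun c => (this ▸ AddSubgroup.mem_top c :
    c ∈ tCoeffs H (E 0) (E 1) h10)) hg hg0

end Jordan

end Cfsg.Agent.GLn
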