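import Cfsg.Agent.GLn.Frames

/-! Weight spaces of the groups of transvections with a fixed centre. -/

open Matrix Finset

namespace Cfsg.Agent.GLn

theorem apply_sum_weight {A K V : Type*} [AddCommGroup A] [Fintype A] [Field K] [AddCommGroup V]
    [Module K V] (π : A → Module.End K V) (hπ : ∀ a b, π (a + b) = π a * π b) (χ : AddChar A K)
    (x : V) (b : A) : π b (∑ a, χ (-a) • π a x) = χ b • ∑ a, χ (-a) • π a x := by
  rw [map_sum, smul_sum, ← Equiv.sum_comp (Equiv.addLeft b) fun a => χ b • χ (-a) • π a x]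
  refine sum_congr rfl fun a _ => ?_
  simp only [Equiv.coe_addLeft, map_smul, hπ, Module.End.mul_apply, smul_smul,
    ← AddChar.map_add_eq_mul]
  congr 2; abel

variable {F : Type*} [Field F] {ι : Type*} [Fintype ι] [DecidableEq ι]

/-- The covectors vanishing on `v`. -/
def perp (v : ι → F) : Submodule F (ι → F) where
  carrier := {w | w ⬝ᵥ v = 0}
  zero_mem' := zero_dotProduct v
  add_mem' := fun {a b} ha hb => by
    change (a + b) ⬝ᵥ v = 0; rw [add_dotProduct, ha, hb, add_zero]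
  smul_mem' := fun c a ha => by
    change (c • a) ⬝ᵥ v = 0; rw [smul_dotProduct, ha, smul_zero]

omit [DecidableEq ι] in
theorem mem_perp {v w : ι → F} : w ∈ perp v ↔ w ⬝ᵥ v = 0 := Iff.rfl

theorem perp_single_apply {k : ι} (w : perp (Pi.single k (1 : F))) : w.1 k = 0 := by
  have := mem_perp.mp w.2; simpa using this

theorem mem_perp_single {k : ι} {w : ι → F} (h : w k = 0) : w ∈ perp (Pi.single k (1 : F)) := by
  rw [mem_perp]; simpa using h

noncomputable instance instFintypePerp [Finite F] (v : ι → F) : Fintype (perp v) :=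
  Fintype.ofFinite _

theorem card_perp_single [Finite F] {n : ℕ} (k : Fin (n + 1)) :
    Fintype.card (perp (Pi.single k (1 : F))) = Nat.card F ^ n := by
  rw [← Nat.card_eq_fintype_card]
  have e : perp (Pi.single k (1 : F)) ≃ (Fin n → F) :=
    { toFun := fun w i => w.1 (k.succAbove i)
      invFun := fun x => ⟨k.insertNth 0 x, mem_perp_single (by simp)⟩
      left_inv := fun w => Subtype.ext (by
        have := Fin.insertNth_self_removeNth k w.1
        rw [perp_single_apply w] at this; exact this)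
      right_inv := fun x => by simp }
  rw [Nat.card_congr e, Nat.card_fun]; simp

theorem linearIndependent_single_pair {k : ι} {u : ι → F} (h : u k = 0) (h0 : u ≠ 0) :
    LinearIndependent F ![Pi.single k 1, u] := by
  rw [LinearIndependent.pair_iff]
  intro s t e
  have h1 : s = 0 := by simpa [h] using congrFun e k
  simpa [h1, h0] using e

variable {K : Type*} [Field K] {V : Type*} [AddCommGroup V] [Module K V]
  (ρ : Representation K (Matrix.SpecialLinearGroup ι F) V) (ψ : AddChar F K)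

/-- The weight space of the transvections with centre `v` for the character given by `u`. -/
def wt (v u : ι → F) : Submodule K V where
  carrier := {x | ∀ w (h : w ⬝ᵥ v = 0), ρ (trv v w h) x = ψ (w ⬝ᵥ u) • x}
  zero_mem' := fun w h => by simp
  add_mem' := fun {a b} ha hb w h => by rw [map_add, ha w h, hb w h, smul_add]
  smul_mem' := fun c a ha w h => by rw [map_smul, ha w h, smul_comm]

variable {ρ ψ}

theorem mem_wt {v u : ι → F} {x : V} :
    x ∈ wt ρ ψ v u ↔ ∀ w (h : w ⬝ᵥ v = 0), ρ (trv v w h) x = ψ (w ⬝ᵥ u) • x := Iff.rfl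

theorem mem_wt_zero {v : ι → F} {x : V} :
    x ∈ wt ρ ψ v 0 ↔ ∀ w (h : w ⬝ᵥ v = 0), ρ (trv v w h) x = x := by simp [mem_wt]

theorem rep_mul_apply {G : Type*} [Group G] (ρ : Representation K G V) (g h : G) (x : V) :
    ρ (g * h) x = ρ g (ρ h x) := by rw [map_mul]; rfl

theorem map_mem_wt {v u v' u' : ι → F} {x : V} (hx : x ∈ wt ρ ψ v u)
    (g : Matrix.SpecialLinearGroup ι F) (hv : g.1 *ᵥ v = v') (hu : g.1 *ᵥ u = u') :
    ρ g x ∈ wt ρ ψ v' u' := by
  subst hv hu
  intro w h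
  have h1 : (w ᵥ* g.1) ⬝ᵥ v = 0 := by rw [← dotProduct_mulVec, h]
  have h2 : trv (g.1 *ᵥ v) w h * g = g * trv v (w ᵥ* g.1) h1 := by
    rw [mul_inv_eq_iff_eq_mul.mp (conj_trv g h1)]
    congr 1
    apply trv_congr
    rw [vecMul_vecMul, ← Matrix.SpecialLinearGroup.coe_mul, mul_inv_cancel,
      Matrix.SpecialLinearGroup.coe_one, vecMul_one]
  rw [← rep_mul_apply, h2, rep_mul_apply, hx, map_smul, dotProduct_mulVec]

theorem wt_add_smul (v u : ι → F) (t : F) : wt ρ ψ v (u + t • v) = wt ρ ψ v u := by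
  ext x
  refine forall_congr' fun w => forall_congr' fun h => ?_
  rw [dotProduct_add, dotProduct_smul, h, smul_zero, add_zero]

theorem wt_smul (v u : ι → F) {c : F} (hc : c ≠ 0) : wt ρ ψ (c • v) (c • u) = wt ρ ψ v u := by
  have key : ∀ (v u : ι → F) (c : F), wt ρ ψ v u ≤ wt ρ ψ (c • v) (c • u) := by
    intro v u c x hx w h
    have h1 : (c • w) ⬝ᵥ v = 0 := by rwa [smul_dotProduct, ← dotProduct_smul]
    rw [dotProduct_smul, ← smul_dotProduct, ← hx _ h1]
    congr 2
    apply trv_congr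
    rw [smul_vecMulVec, vecMulVec_smul]
  refine le_antisymm ?_ (key _ _ _)
  simpa [smul_smul, hc] using key (c • v) (c • u) c⁻¹

theorem wt_smul_zero (v : ι → F) {c : F} (hc : c ≠ 0) : wt ρ ψ (c • v) 0 = wt ρ ψ v 0 := by
  simpa using wt_smul (ρ := ρ) (ψ := ψ) v 0 hc

/-- The character `w ↦ ψ (w ⬝ u)` of `perp v`. -/
def dotChar (ψ : AddChar F K) (v u : ι → F) : AddChar (perp v) K where
  toFun w := ψ (w.1 ⬝ᵥ u)
  map_zero_eq_one' := by simp
  map_add_eq_mul' a b := by simp [add_dotProduct, AddChar.map_add_eq_mul]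

omit [DecidableEq ι] in
theorem dotChar_apply (v u : ι → F) (w : perp v) : dotChar ψ v u w = ψ (w.1 ⬝ᵥ u) := rfl

theorem exists_apply_mul_ne_one (hψ : ψ ≠ 1) {c : F} (hc : c ≠ 0) : ∃ t, ψ (t * c) ≠ 1 := by
  obtain ⟨a, ha⟩ := AddChar.ne_one_iff.mp hψ
  exact ⟨a / c, by rwa [div_mul_cancel₀ _ hc]⟩

variable [Finite F]

omit [DecidableEq ι] in
theorem sum_perp_eq_zero (hψ : ψ ≠ 1) {v u w₀ : ι → F} (h : w₀ ⬝ᵥ v = 0) (h' : w₀ ⬝ᵥ u ≠ 0) :
    ∑ w : perp v, ψ (w.1 ⬝ᵥ u) = 0 := by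
  obtain ⟨t, ht⟩ := exists_apply_mul_ne_one hψ h'
  refine AddChar.sum_eq_zero_of_ne_one (ψ := dotChar ψ v u)
    (AddChar.ne_one_iff.mpr ⟨t • ⟨w₀, h⟩, ?_⟩)
  simpa [dotChar_apply] using ht

variable (ρ ψ) in
/-- The (unnormalized) projection onto a weight space. -/
noncomputable def wsum (v u : ι → F) : Module.End K V :=
  ∑ w : perp v, ψ (-(w.1 ⬝ᵥ u)) • ρ (trv v w.1 (mem_perp.mp w.2))

theorem wsum_apply (v u : ι → F) (x : V) :
    wsum ρ ψ v u x = ∑ w : perp v, ψ (-(w.1 ⬝ᵥ u)) • ρ (trv v w.1 (mem_perp.mp w.2)) x := by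
  simp [wsum, LinearMap.sum_apply]

theorem wsum_mem (v u : ι → F) (x : V) : wsum ρ ψ v u x ∈ wt ρ ψ v u := by
  intro w h
  have := apply_sum_weight (fun a : perp v => ρ (trv v a.1 (mem_perp.mp a.2)))
    (fun a b => by rw [← map_mul, ← trv_add_right]; rfl) (dotChar ψ v u) x ⟨w, h⟩
  simpa only [wsum_apply, dotChar_apply, NegMemClass.coe_neg, neg_dotProduct] using this

theorem wsum_of_mem {v u u' : ι → F} {x : V} (hx : x ∈ wt ρ ψ v u') :
    wsum ρ ψ v u x = (∑ w : perp v, ψ (w.1 ⬝ᵥ (u' - u))) • x := by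
  rw [wsum_apply, sum_smul]
  refine sum_congr rfl fun w _ => ?_
  rw [hx, smul_smul, ← AddChar.map_add_eq_mul, dotProduct_sub]
  congr 2; ring

theorem wsum_self {v u : ι → F} {x : V} (hx : x ∈ wt ρ ψ v u) :
    wsum ρ ψ v u x = (Fintype.card (perp v) : K) • x := by
  rw [wsum_of_mem hx]; simp

theorem sum_wsum (hψ : ψ ≠ 1) (k : ι) (x : V) :
    ∑ u : perp (Pi.single k (1 : F)), wsum ρ ψ (Pi.single k 1) u.1 x =
      (Fintype.card (perp (Pi.single k (1 : F))) : K) • x := by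
  simp only [wsum_apply]
  rw [sum_comm, sum_eq_single 0 (fun w _ hw => ?_) (by simp)]
  · simp [trv_zero_right, Nat.cast_smul_eq_nsmul]
  · rw [← sum_smul]
    obtain ⟨j, hj⟩ : ∃ j, w.1 j ≠ 0 := by
      by_contra! h; exact hw (Subtype.ext (funext h))
    have hk : w.1 k = 0 := perp_single_apply w
    have := sum_perp_eq_zero hψ (v := Pi.single k 1) (u := -w.1) (w₀ := Pi.single j 1)
      (by simp [Pi.single_apply]; rintro rfl; exact hj hk) (by simpa using hj)
    simp only [dotProduct_neg, dotProduct_comm _ w.1] at this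
    rw [this, zero_smul]

theorem wsum_eq_zero_of_ne (hψ : ψ ≠ 1) {k : ι} {u u' : perp (Pi.single k (1 : F))} (h : u ≠ u')
    {x : V} (hx : x ∈ wt ρ ψ (Pi.single k 1) u'.1) : wsum ρ ψ (Pi.single k 1) u.1 x = 0 := by
  obtain ⟨j, hj⟩ : ∃ j, (u' - u).1 j ≠ 0 := by
    by_contra! h'; exact h (sub_eq_zero.mp (Subtype.ext (funext h'))).symm
  have hk : (u' - u).1 k = 0 := perp_single_apply _
  rw [wsum_of_mem hx, sum_perp_eq_zero hψ (w₀ := Pi.single j 1)
    (by simp [Pi.single_apply]; rintro rfl; exact hj hk) (by simpa using hj), zero_smul]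

theorem mem_wt_zero_of_wsum (hψ : ψ ≠ 1) {k : ι}
    (hq : (Fintype.card (perp (Pi.single k (1 : F))) : K) ≠ 0) {x : V}
    (h : ∀ u : ι → F, u k = 0 → u ≠ 0 → wsum ρ ψ (Pi.single k 1) u x = 0) :
    x ∈ wt ρ ψ (Pi.single k 1) 0 := by
  have h1 := sum_wsum (ρ := ρ) hψ k x
  rw [sum_eq_single 0 (fun u _ hu => h u.1 (perp_single_apply u)
    fun e => hu (Subtype.ext e)) (by simp)] at h1
  rw [← Submodule.smul_mem_iff _ hq, ← h1]
  exact wsum_mem _ _ _

theorem card_le_finrank_of_moved [FiniteDimensional K V] {m : ℕ}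
    {ρ : Representation K (Matrix.SpecialLinearGroup (Fin (m + 3)) F) V} (hψ : ψ ≠ 1)
    (hq : (Nat.card F : K) ≠ 0) {x : V} (hx : x ∉ wt ρ ψ (Pi.single 0 1) 0) :
    Nat.card F ^ (m + 2) - 1 ≤ Module.finrank K V := by
  classical
  have hq' : (Fintype.card (perp (Pi.single (0 : Fin (m + 3)) (1 : F))) : K) ≠ 0 := by
    rw [card_perp_single]; push_cast; exact pow_ne_zero _ hq
  obtain ⟨u, hu, hu0, hy⟩ : ∃ u : Fin (m + 3) → F, u 0 = 0 ∧ u ≠ 0 ∧
      wsum ρ ψ (Pi.single 0 1) u x ≠ 0 := by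
    by_contra! h; exact hx (mem_wt_zero_of_wsum hψ hq' h)
  have hex : ∀ u' : {u' : perp (Pi.single (0 : Fin (m + 3)) (1 : F)) // u' ≠ 0},
      ∃ y ∈ wt ρ ψ (Pi.single 0 1) u'.1.1, y ≠ 0 := fun u' => by
    obtain ⟨g, h1, h2⟩ := exists_sl_pair (by omega) (linearIndependent_single_pair hu hu0)
      (linearIndependent_single_pair (k := 0) (u := u'.1.1) (perp_single_apply _)
        fun e => u'.2 (Subtype.ext e))
    refine ⟨_, map_mem_wt (wsum_mem _ _ x) g h1 h2, fun e => hy ?_⟩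
    simpa [← rep_mul_apply] using congrArg (ρ g⁻¹) e
  choose y hy hy0 using hex
  have hli : LinearIndependent K y := by
    rw [Fintype.linearIndependent_iff]
    intro c hc i
    have := congrArg (wsum ρ ψ (Pi.single 0 1) i.1.1) hc
    rw [map_sum, sum_eq_single i (fun j _ hj => by
      rw [map_smul, wsum_eq_zero_of_ne hψ (fun e => hj (Subtype.ext e).symm) (hy j), smul_zero])
      (by simp), map_smul, wsum_self (hy i), map_zero, smul_smul] at this
    exact (mul_eq_zero.mp ((smul_eq_zero.mp this).resolve_right (hy0 i))).resolve_right hq'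
  have := hli.fintype_card_le_finrank
  rwa [Fintype.card_subtype_compl, card_perp_single, Fintype.card_unique] at this

end Cfsg.Agent.GLn
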