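import Cfsg.Agent.GLn.Weights

/-! Dimensions of weight spaces, frames. -/

open Matrix Finset

namespace Cfsg.Agent.GLn

variable {F : Type*} [Field F] {K : Type*} [Field K] {V : Type*} [AddCommGroup V] [Module K V]

/-- The stabilizer of a vector in a representation. -/
def fixSub {G : Type*} [Group G] (ρ : Representation K G V) (x : V) : Subgroup G where
  carrier := {g | ρ g x = x}
  one_mem' := by simp
  mul_mem' := fun {a b} ha hb => by
    change ρ (a * b) x = x
    rw [rep_mul_apply, hb, ha]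
  inv_mem' := fun {a} ha => by
    change ρ a⁻¹ x = x
    have : ρ a x = x := ha
    conv_lhs => rw [← this, ← rep_mul_apply, inv_mul_cancel, map_one]
    rfl

theorem mem_fixSub {G : Type*} [Group G] {ρ : Representation K G V} {x : V} {g : G} :
    g ∈ fixSub ρ x ↔ ρ g x = x := Iff.rfl

theorem rep_inv_apply {G : Type*} [Group G] (ρ : Representation K G V) (g : G) (x : V) :
    ρ g⁻¹ (ρ g x) = x := by rw [← rep_mul_apply, inv_mul_cancel, map_one]; rfl

theorem rep_apply_inv {G : Type*} [Group G] (ρ : Representation K G V) (g : G) (x : V) :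
    ρ g (ρ g⁻¹ x) = x := by rw [← rep_mul_apply, mul_inv_cancel, map_one]; rfl

theorem rep_ne_zero {G : Type*} [Group G] (ρ : Representation K G V) (g : G) {x : V}
    (hx : x ≠ 0) : ρ g x ≠ 0 := fun e => hx (by rw [← rep_inv_apply ρ g x, e, map_zero])

theorem rep_eq_of_inv_mul {G : Type*} [Group G] (ρ : Representation K G V) {g h : G} {x : V}
    (hx : ρ (h⁻¹ * g) x = x) : ρ g x = ρ h x := by
  conv_rhs => rw [← hx, ← rep_mul_apply, mul_inv_cancel_left]

/-- The standard basis vectors. -/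
abbrev ev (F : Type*) [Field F] {m : ℕ} (i : Fin (m + 3)) : Fin (m + 3) → F := Pi.single i 1

variable {m : ℕ}

local notation "SLm" => Matrix.SpecialLinearGroup (Fin (m + 3)) F

theorem fin3_zero_ne_one : (0 : Fin (m + 3)) ≠ 1 := by simp
theorem fin3_zero_ne_two : (0 : Fin (m + 3)) ≠ 2 := by
  intro h; have := congrArg Fin.val h; rw [Fin.val_two] at this; simp at this
theorem fin3_one_ne_two : (1 : Fin (m + 3)) ≠ 2 := by
  intro h; have := congrArg Fin.val h; rw [Fin.val_two] at this; simp at this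

theorem li_pair_of_coord {ι : Type*} {a b : ι → F} (i j : ι) (h : a i * b j - a j * b i ≠ 0) :
    LinearIndependent F ![a, b] := by
  rw [LinearIndependent.pair_iff]
  intro s t e
  have h1 := congrFun e i
  have h2 := congrFun e j
  simp only [Pi.add_apply, Pi.smul_apply, smul_eq_mul, Pi.zero_apply] at h1 h2
  constructor
  · apply mul_right_cancel₀ h
    linear_combination b j * h1 - b i * h2
  · apply mul_right_cancel₀ h
    linear_combination a i * h2 - a j * h1

theorem li_triple_iff {W : Type*} [AddCommGroup W] [Module F W] {a b c : W} :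
    LinearIndependent F ![a, b, c] ↔
      ∀ r s t : F, r • a + s • b + t • c = 0 → r = 0 ∧ s = 0 ∧ t = 0 := by
  rw [Fintype.linearIndependent_iff]
  constructor
  · intro h r s t e
    have := h ![r, s, t] (by simpa [Fin.sum_univ_three] using e)
    exact ⟨this 0, this 1, this 2⟩
  · intro h g e i
    have := h (g 0) (g 1) (g 2) (by simpa [Fin.sum_univ_three] using e)
    fin_cases i
    · exact this.1
    · exact this.2.1
    · exact this.2.2

theorem li_ev_pair {i j : Fin (m + 3)} (h : i ≠ j) : LinearIndependent F ![ev F i, ev F j] :=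
  li_pair_of_coord i j (by simp [h, h.symm])

theorem li_ev_triple {i j k : Fin (m + 3)} (hij : i ≠ j) (hik : i ≠ k) (hjk : j ≠ k) :
    LinearIndependent F ![ev F i, ev F j, ev F k] := by
  rw [li_triple_iff]
  intro r s t e
  refine ⟨?_, ?_, ?_⟩
  · simpa [hij, hik] using congrFun e i
  · simpa [hij.symm, hjk] using congrFun e j
  · simpa [hik.symm, hjk.symm] using congrFun e k

theorem exists_sl_ev {a b : Fin (m + 3) → F} (h : LinearIndependent F ![a, b]) :
    ∃ g : SLm, g.1 *ᵥ ev F 0 = a ∧ g.1 *ᵥ ev F 1 = b :=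
  exists_sl_pair (by omega) (li_ev_pair fin3_zero_ne_one) h

variable [Finite F] {ρ : Representation K (Matrix.SpecialLinearGroup (Fin (m + 3)) F) V}
  {ψ : AddChar F K}

theorem card_perp_ne_zero (hq : (Nat.card F : K) ≠ 0) (k : Fin (m + 3)) :
    (Fintype.card (perp (ev F k)) : K) ≠ 0 := by
  rw [card_perp_single]; push_cast; exact pow_ne_zero _ hq

omit [Finite F] in
theorem finrank_wt_le [FiniteDimensional K V] {a b a' b' : Fin (m + 3) → F}
    (h : LinearIndependent F ![a, b]) (h' : LinearIndependent F ![a', b']) :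
    Module.finrank K (wt ρ ψ a b) ≤ Module.finrank K (wt ρ ψ a' b') := by
  obtain ⟨g, h1, h2⟩ := exists_sl_pair (by omega) h h'
  refine LinearMap.finrank_le_finrank_of_injective
    (f := (ρ g).restrict (p := wt ρ ψ a b) (q := wt ρ ψ a' b') fun x hx => map_mem_wt hx g h1 h2)
    fun x y e => Subtype.ext ?_
  have := congrArg (fun z => ρ g⁻¹ z.1) e
  simpa [rep_inv_apply] using this

theorem finrank_wt_add_le [FiniteDimensional K V] (hψ : ψ ≠ 1) (hq : (Nat.card F : K) ≠ 0) :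
    Module.finrank K (wt ρ ψ (ev F 0) 0) +
      (Nat.card F ^ (m + 2) - 1) * Module.finrank K (wt ρ ψ (ev F 0) (ev F 1)) ≤
        Module.finrank K V := by
  classical
  have hind : iSupIndep fun u : perp (ev F (0 : Fin (m + 3))) => wt ρ ψ (ev F 0) u.1 := by
    rw [iSupIndep_iff_finsetSum_eq_zero_imp_eq_zero]
    intro s v hv hs i hi
    have := congrArg (wsum ρ ψ (ev F 0) i.1) hs
    rw [map_sum, sum_eq_single i (fun j hj hji => wsum_eq_zero_of_ne hψ hji.symm (hv j hj))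
      (fun h => absurd hi h), wsum_self (hv i hi), map_zero] at this
    exact (smul_eq_zero.mp this).resolve_left (card_perp_ne_zero hq 0)
  have h1 := LinearMap.finrank_le_finrank_of_injective hind.dfinsupp_lsum_injective
  have h2 := Module.finrank_directSum K
    (fun u : perp (ev F (0 : Fin (m + 3))) => wt ρ ψ (ev F 0) u.1)
  refine le_trans ?_ (h2.symm.le.trans h1)
  rw [← add_sum_erase _ _ (mem_univ 0)]
  refine add_le_add le_rfl ?_
  rw [← card_perp_single (0 : Fin (m + 3)), ← Finset.card_univ, ← card_erase_of_mem (mem_univ 0),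
    ← smul_eq_mul]
  refine card_nsmul_le_sum _ _ _ fun u hu => finrank_wt_le (li_ev_pair fin3_zero_ne_one) ?_
  exact linearIndependent_single_pair (perp_single_apply u)
    fun e => ne_of_mem_erase hu (Subtype.ext e)

omit [Finite F] in
theorem fixSub_eq_top_of_wt {x : V} (h : ∀ i, x ∈ wt ρ ψ (ev F i) 0) : fixSub ρ x = ⊤ := by
  refine eq_top_of_tv_mem fun i j hij a => ?_
  rw [tv_eq_trv]
  exact mem_wt_zero.mp (h i) _ _

theorem exists_mem_wt (hψ : ψ ≠ 1) (hq : (Nat.card F : K) ≠ 0) {x : V} (hx : fixSub ρ x ≠ ⊤)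
    {a b : Fin (m + 3) → F} (h : LinearIndependent F ![a, b]) : ∃ y ∈ wt ρ ψ a b, y ≠ 0 := by
  by_contra! hy
  have h0 : ∀ z, z ∈ wt ρ ψ (ev F (0 : Fin (m + 3))) 0 := fun z => by
    refine mem_wt_zero_of_wsum hψ (card_perp_ne_zero hq 0) fun u hu hu0 => ?_
    obtain ⟨g, h1, h2⟩ := exists_sl_pair (by omega) (linearIndependent_single_pair hu hu0) h
    by_contra hne
    exact rep_ne_zero ρ g hne (hy _ (map_mem_wt (wsum_mem _ _ z) g h1 h2))
  refine hx (fixSub_eq_top_of_wt (ψ := ψ) fun i => ?_)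
  obtain ⟨g, hg⟩ := exists_sl_single (F := F) (n := m + 3) (by omega) (v := ev F 0) (w := ev F i)
    (by simp) (by simp)
  have := map_mem_wt (h0 (ρ g⁻¹ x)) g hg (mulVec_zero _)
  rwa [rep_apply_inv] at this

variable (ρ ψ) in
/-- The weight space `V(e₀,e₁)` is fixed by the stabilizer of `e₀` and `e₁`. -/
def MuTriv : Prop := ∀ y ∈ wt ρ ψ (ev F 0) (ev F 1), ∀ g : SLm,
  g.1 *ᵥ ev F 0 = ev F 0 → g.1 *ᵥ ev F 1 = ev F 1 → ρ g y = y

omit [Finite F] in
theorem MuTriv.fix (hμ : MuTriv ρ ψ) {a b : Fin (m + 3) → F} (h : LinearIndependent F ![a, b])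
    {y : V} (hy : y ∈ wt ρ ψ a b) {g : SLm} (ha : g.1 *ᵥ a = a) (hb : g.1 *ᵥ b = b) :
    ρ g y = y := by
  obtain ⟨k, h1, h2⟩ := exists_sl_ev h
  have := hμ _ (map_mem_wt hy k⁻¹ (sl_inv_mulVec k h1) (sl_inv_mulVec k h2)) (k⁻¹ * g * k)
    (by rw [sl_mul_mulVec, sl_mul_mulVec, h1, ha, sl_inv_mulVec k h1])
    (by rw [sl_mul_mulVec, sl_mul_mulVec, h2, hb, sl_inv_mulVec k h2])
  rw [rep_mul_apply, rep_mul_apply, rep_apply_inv] at this
  simpa [rep_apply_inv] using congrArg (ρ k) this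

omit [Finite F] in
/-- On a line, commutators act trivially. -/
theorem line_commutator {W : Submodule K V} [FiniteDimensional K W] (hW : Module.finrank K W ≤ 1)
    {g h : SLm} (hg : ∀ y ∈ W, ρ g y ∈ W) (hh : ∀ y ∈ W, ρ h y ∈ W) {y : V} (hy : y ∈ W) :
    ρ (g * h) y = ρ (h * g) y := by
  obtain ⟨v, hv⟩ := finrank_le_one_iff.mp hW
  obtain ⟨c, hc⟩ := hv ⟨y, hy⟩
  obtain ⟨a, ha⟩ := hv ⟨_, hg v v.2⟩
  obtain ⟨b, hb⟩ := hv ⟨_, hh v v.2⟩
  have hc' : y = c • v.1 := (congrArg Subtype.val hc).symm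
  have ha' : ρ g v.1 = a • v.1 := (congrArg Subtype.val ha).symm
  have hb' : ρ h v.1 = b • v.1 := (congrArg Subtype.val hb).symm
  simp only [hc', rep_mul_apply, map_smul, ha', hb']
  rw [smul_comm a b]

local notation "tv" => Matrix.SpecialLinearGroup.transvection

omit [Finite F] in
theorem tv_fix_ev {i j k : Fin (m + 3)} (h : i ≠ j) (hk : j ≠ k) (a : F) :
    (tv h a : SLm).1 *ᵥ ev F k = ev F k := by
  rw [tv_mulVec]; simp [hk]

omit [Finite F] in
theorem muTriv_of_rootIn [FiniteDimensional K V]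
    (hW : Module.finrank K (wt ρ ψ (ev F 0) (ev F 1)) ≤ 1)
    (h : ∀ y ∈ wt ρ ψ (ev F 0) (ev F 1), ∀ i j : Fin (m + 3), i ≠ 0 → j ≠ 0 → j ≠ 1 →
      (∀ k, k = 0 ∨ k = 1 ∨ k = i ∨ k = j) → RootIn (fixSub ρ y) i j) : MuTriv ρ ψ := by
  intro y hy g h0 h1
  refine mem_of_fix (H := fixSub ρ y) {0, 1} (fun i j hj => ?_) g (fun j hj => by
    rcases mem_insert.mp hj with rfl | hj
    · exact h0
    · rw [mem_singleton.mp hj]; exact h1)
  simp only [mem_insert, mem_singleton, not_or] at hj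
  by_cases hi : i = 0
  · subst hi
    intro hij a
    rw [mem_fixSub, tv_eq_trv, hy]
    simp [hj.2]
  by_cases hk : ∀ k, k = 0 ∨ k = 1 ∨ k = i ∨ k = j
  · exact h y hy i j hi hj.1 hj.2 hk
  push Not at hk
  obtain ⟨k, hk0, hk1, hki, hkj⟩ := hk
  intro hij a
  have hp : ∀ {i j : Fin (m + 3)} (hij : i ≠ j) (a : F), j ≠ 0 → j ≠ 1 →
      ∀ z ∈ wt ρ ψ (ev F 0) (ev F 1), ρ (tv hij a)⁻¹ z ∈ wt ρ ψ (ev F 0) (ev F 1) :=
    fun hij a h0 h1 z hz => map_mem_wt hz _ (sl_inv_mulVec _ (tv_fix_ev hij h0 a))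
      (sl_inv_mulVec _ (tv_fix_ev hij h1 a))
  have := line_commutator hW (hp hki.symm a hk0 hk1) (hp hkj 1 hj.1 hj.2) hy
  rw [mem_fixSub, ← mul_one a, ← tv_commutator hki.symm hkj hij, mul_assoc, rep_mul_apply, this,
    ← _root_.mul_inv_rev, rep_apply_inv]

omit [Finite F] in
theorem rootIn_of_torus [FiniteDimensional K V]
    (hW : Module.finrank K (wt ρ ψ (ev F 0) (ev F 1)) ≤ 1) (d : Fin (m + 3) → F)
    (hd : ∏ k, d k = 1) (h01 : d 0 = d 1) {i j : Fin (m + 3)} (hj0 : j ≠ 0) (hj1 : j ≠ 1)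
    (hij : d i ≠ d j) {y : V} (hy : y ∈ wt ρ ψ (ev F 0) (ev F 1)) : RootIn (fixSub ρ y) i j := by
  intro h a
  let g : SLm := ⟨diagonal d, by rw [det_diagonal, hd]⟩
  have hd0 : d 0 ≠ 0 := fun e => by
    rw [prod_eq_zero (mem_univ 0) e] at hd; exact zero_ne_one hd
  have hg : ∀ k, g.1 *ᵥ ev F k = d k • ev F k := fun k => by
    ext l; by_cases hl : l = k <;> simp [g, mulVec_diagonal, Pi.single_apply, hl]
  have hgW : ∀ z ∈ wt ρ ψ (ev F 0) (ev F 1), ρ g z ∈ wt ρ ψ (ev F 0) (ev F 1) := fun z hz => by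
    have := map_mem_wt hz g (hg 0) (hg 1)
    rwa [← h01, wt_smul _ _ hd0] at this
  have hgW' : ρ g⁻¹ y ∈ wt ρ ψ (ev F 0) (ev F 1) := by
    rw [← wt_smul _ _ hd0] at hy
    exact map_mem_wt hy _ (sl_inv_mulVec _ (hg 0)) (sl_inv_mulVec _ (by rw [hg 1, h01]))
  obtain ⟨b, rfl⟩ : ∃ b, a = (d i - d j) * b :=
    ⟨a / (d i - d j), by rw [mul_div_cancel₀ _ (sub_ne_zero.mpr hij)]⟩
  have := line_commutator hW hgW (h := tv h (b * d j)) (fun z hz => map_mem_wt hz _
    (tv_fix_ev h hj0 _) (tv_fix_ev h hj1 _)) hgW'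
  rw [diagonal_conj_tv d rfl, rep_mul_apply, rep_mul_apply, rep_apply_inv] at this
  have e : (d i - d j) * b = -(b * d j) + d i * b := by ring
  rw [mem_fixSub, e, Matrix.SpecialLinearGroup.transvection_add, rep_mul_apply, this,
    ← Matrix.SpecialLinearGroup.transvection_inv, rep_inv_apply]

omit [Finite F] in
theorem muTriv_of_finrank [FiniteDimensional K V]
    (hW : Module.finrank K (wt ρ ψ (ev F 0) (ev F 1)) ≤ 1)
    (h3 : m = 0 → ∃ c : F, c ≠ 0 ∧ c ^ 3 ≠ 1) (h4 : m = 1 → ∃ c : F, c ≠ 0 ∧ c ^ 2 ≠ 1) :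
    MuTriv ρ ψ := by
  refine muTriv_of_rootIn hW fun y hy i j hi hj0 hj1 hk => ?_
  by_cases hij : i = j
  · exact fun h => absurd hij h
  rcases m with _ | _ | m
  · obtain ⟨c, hc, hc3⟩ := h3 rfl
    obtain ⟨rfl, rfl⟩ : i = 1 ∧ j = 2 := by revert i j; decide
    refine rootIn_of_torus hW ![c, c, c⁻¹ ^ 2] (by simp [Fin.prod_univ_succ]; field_simp) rfl
      hj0 hj1 (fun e => hc3 ?_) hy
    have e' : c = c⁻¹ ^ 2 := e
    field_simp at e'
    exact e'
  · obtain ⟨c, hc, hc2⟩ := h4 rfl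
    have hc' : c ≠ c⁻¹ := fun e => hc2 (by rw [sq]; nth_rw 2 [e]; exact mul_inv_cancel₀ hc)
    have : (i = 2 ∧ j = 3) ∨ (i = 3 ∧ j = 2) := by revert i j; decide
    refine rootIn_of_torus hW ![1, 1, c, c⁻¹] (by simp [Fin.prod_univ_succ, hc]) rfl
      hj0 hj1 ?_ hy
    rcases this with ⟨rfl, rfl⟩ | ⟨rfl, rfl⟩
    · exact hc'
    · exact hc'.symm
  · exfalso
    have : (univ : Finset (Fin (m + 1 + 1 + 3))) ⊆ {0, 1, i, j} := fun k _ => by simpa using hk k
    have h2 := (card_le_card this).trans card_le_four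
    simp at h2

end Cfsg.Agent.GLn
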